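import Cfsg.Agent.Lib.Classical.PrimeTwin.Witt

/-!
Three short orbits over four points.
-/

set_option autoImplicit false

namespace Cfsg.Agent.Classical.PrimeTwin

open Equiv MulAction
open scoped commutatorElement

namespace Cfg

universe u

variable {Ω : Type u} [Fintype Ω] [DecidableEq Ω] {r : ℕ} [Fact r.Prime]
variable {G : Subgroup (Perm Ω)}

theorem two_fixed (C : Cfg G r 4 3) (h2 : IsMultiplyPretransitive G Ω 2)
    (hA : ¬ alternatingGroup Ω ≤ G) {z : Perm Ω} (hz : z ∈ C.R) {y y' : Ω}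
    (hy : ∀ i, C.a i ≠ y) (hy' : ∀ i, C.a i ≠ y') (hne : y' ∉ C.orb y) (hzy : z y = y)
    (hzy' : z y' = y') : z = 1 := by
  classical
  have hsm := C.ksmall
  refine C.eq_one_of_one_orbit h2 hA (by norm_num) (by omega) hz fun y₁ y₂ h₁ h₂ => ?_
  have hy₁ : ∀ i, C.a i ≠ y₁ := fun i e => h₁ (e ▸ C.fix z hz i)
  have hy₂ : ∀ i, C.a i ≠ y₂ := fun i e => h₂ (e ▸ C.fix z hz i)
  by_contra hne'
  have dis : ∀ u v, v ∉ C.orb u → Disjoint (C.orb u) (C.orb v) := fun u v huv =>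
    Set.disjoint_left.2 fun w hw hw' => huv (by
      rw [← C.orb_eq_of_mem hw, C.orb_eq_of_mem hw']; exact C.self_mem_orb v)
  have hfix : ∀ u v, (∀ i, C.a i ≠ u) → z u = u → z v ≠ v → v ∉ C.orb u := fun u v hu hzu hzv hv =>
    hzv (C.fix_orb hz hu hzu hv)
  have hsub : C.orb y ∪ C.orb y' ∪ C.orb y₁ ∪ C.orb y₂ ⊆ (Set.range C.a)ᶜ := by
    rintro w (((hw | hw) | hw) | hw) ⟨i, hi⟩
    · exact C.orb_outside hy hw i hi
    · exact C.orb_outside hy' hw i hi
    · exact C.orb_outside hy₁ hw i hi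
    · exact C.orb_outside hy₂ hw i hi
  have h := Set.ncard_le_ncard hsub (Set.toFinite _)
  rw [Set.ncard_union_eq (Set.disjoint_union_left.2 ⟨Set.disjoint_union_left.2
      ⟨dis _ _ (hfix y y₂ hy hzy h₂), dis _ _ (hfix y' y₂ hy' hzy' h₂)⟩, dis _ _ hne'⟩),
    Set.ncard_union_eq (Set.disjoint_union_left.2
      ⟨dis _ _ (hfix y y₁ hy hzy h₁), dis _ _ (hfix y' y₁ hy' hzy' h₁)⟩),
    Set.ncard_union_eq (dis _ _ hne), C.orb_card hy, C.orb_card hy', C.orb_card hy₁, C.orb_card hy₂,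
    Set.ncard_compl, Set.ncard_range_of_injective C.a.injective, Nat.card_eq_fintype_card,
    Nat.card_fin, C.card] at h
  omega

/-- The orbits outside the distinguished points. -/
abbrev Orbs (C : Cfg G r 4 3) : Type _ := {O : Set Ω // ∃ y, (∀ i, C.a i ≠ y) ∧ O = C.orb y}

noncomputable instance (C : Cfg G r 4 3) : Fintype C.Orbs := Fintype.ofFinite {O : Set Ω // _}

noncomputable instance (C : Cfg G r 4 3) : DecidableEq C.Orbs := Classical.decEq _

theorem card_orbs (C : Cfg G r 4 3) : Fintype.card C.Orbs = 3 := by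
  classical
  let Y := {y : Ω // ∀ i, C.a i ≠ y}
  let f : Y → C.Orbs := fun y => ⟨C.orb y, y, y.2, rfl⟩
  have hY : Fintype.card Y = 3 * r := by
    have : (Finset.univ.filter fun y : Ω => ∀ i, C.a i ≠ y) = (Finset.univ.map C.a)ᶜ := by ext; simp
    rw [Fintype.card_subtype, this, Finset.card_compl, Finset.card_map, Finset.card_univ,
      Fintype.card_fin, C.card]
    omega
  have hfib : ∀ O : C.Orbs, Fintype.card {y : Y // f y = O} = r := by
    rintro ⟨O, y, hy, rfl⟩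
    refine Eq.trans ?_ (C.orb_card hy)
    rw [Set.ncard_eq_toFinset_card', Set.toFinset_card]
    refine Fintype.card_congr
      { toFun := fun z => ⟨(z.1 : Ω), ?_⟩
        invFun := fun z => ⟨⟨z.1, C.orb_outside hy z.2⟩, Subtype.ext (C.orb_eq_of_mem z.2)⟩
        left_inv := fun z => rfl
        right_inv := fun z => rfl }
    have h : C.orb (z.1 : Ω) = C.orb y := congrArg Subtype.val z.2
    exact h.subset (C.self_mem_orb _)
  have h := Fintype.card_congr (Equiv.sigmaFiberEquiv f)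
  rw [Fintype.card_sigma, Finset.sum_congr rfl (fun O _ => hfib O), Finset.sum_const,
    Finset.card_univ, smul_eq_mul, hY] at h
  exact Nat.eq_of_mul_eq_mul_right (Fact.out : r.Prime).pos h

/-- The permutations of the orbits. -/
noncomputable def orbHom (C : Cfg G r 4 3) : C.N →* Perm C.Orbs where
  toFun n :=
    { toFun := fun O => ⟨C.ι n '' O.1, by
        obtain ⟨y, hy, e⟩ := O.2
        exact ⟨C.ι n y, C.outside_image n hy, by rw [e, C.image_orb]⟩⟩
      invFun := fun O => ⟨C.ι n⁻¹ '' O.1, by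
        obtain ⟨y, hy, e⟩ := O.2
        exact ⟨C.ι n⁻¹ y, C.outside_image n⁻¹ hy, by rw [e, C.image_orb]⟩⟩
      left_inv := fun O => Subtype.ext (by simp [Set.image_image])
      right_inv := fun O => Subtype.ext (by simp [Set.image_image]) }
  map_one' := Equiv.ext fun O => Subtype.ext (show C.ι 1 '' O.1 = O.1 by simp)
  map_mul' n n' := Equiv.ext fun O => Subtype.ext
    (show C.ι (n * n') '' O.1 = C.ι n '' (C.ι n' '' O.1) by simp [Set.image_image])

theorem preserves_of_ker (C : Cfg G r 4 3) {n : C.N} (hn : C.orbHom n = 1) {y : Ω}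
    (hy : ∀ i, C.a i ≠ y) : C.ι n y ∈ C.orb y := by
  have h : C.ι n '' C.orb y = C.orb y :=
    congrArg Subtype.val (Equiv.congr_fun hn ⟨C.orb y, y, hy, rfl⟩)
  rw [← h]
  exact ⟨y, C.self_mem_orb y, rfl⟩

set_option maxRecDepth 8000 in
/-- Three short orbits over four points. -/
theorem alt_three (C : Cfg G r 4 3) (h4 : IsMultiplyPretransitive G Ω 4)
    (h2 : IsMultiplyPretransitive G Ω 2) : alternatingGroup Ω ≤ G := by
  classical
  by_contra hA
  have hr : r.Prime := Fact.out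
  have hsm := C.ksmall
  obtain ⟨y₀, hy₀⟩ : ∃ y, ∀ i, C.a i ≠ y := by
    by_contra hcon
    push Not at hcon
    have := Fintype.card_le_of_surjective C.a fun y => hcon y
    rw [C.card, Fintype.card_fin] at this
    have := hr.pos
    omega
  -- a distinguished element
  obtain ⟨x₀, hx₀, hx1, hpow⟩ : ∃ x₀ ∈ C.R, x₀ ≠ 1 ∧ ∀ n : C.orbHom.ker,
      C.ι (n : C.N) * x₀ * (C.ι (n : C.N))⁻¹ ∈ Subgroup.zpowers x₀ := by
    have key : ∀ x₀ ∈ C.R, ∀ w ∈ C.R, ∀ y, (∀ i, C.a i ≠ y) → x₀ y ≠ y →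
        (∀ i : ℤ, ((x₀ ^ i)⁻¹ * w) y = y → (x₀ ^ i)⁻¹ * w = 1) → w ∈ Subgroup.zpowers x₀ := by
      intro x₀ hx₀ w hw y hy hxy h
      obtain ⟨i, hi⟩ := C.eq_zpow_on hx₀ hw hy hxy
      refine Subgroup.mem_zpowers_iff.2 ⟨i, inv_mul_eq_one.1 (h i ?_)⟩
      rw [Perm.mul_apply, Perm.inv_eq_iff_eq, hi y (C.self_mem_orb y)]
    by_cases hex : ∃ x ∈ C.R, x ≠ 1 ∧ x y₀ = y₀
    · obtain ⟨x, hx, hx1, hxy₀⟩ := hex
      refine ⟨x, hx, hx1, fun n => ?_⟩
      obtain ⟨y₁, hy₁⟩ : ∃ y, x y ≠ y := by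
        by_contra hcon
        push Not at hcon
        exact hx1 (Equiv.ext hcon)
      have hy₁out : ∀ i, C.a i ≠ y₁ := fun i e => hy₁ (e ▸ C.fix x hx i)
      refine key x hx _ (C.conj n x hx) y₁ hy₁out hy₁ fun i hi => ?_
      refine C.two_fixed h2 hA (C.R.mul_mem (C.R.inv_mem (C.R.zpow_mem hx i)) (C.conj n x hx))
        hy₀ hy₁out (fun h => hy₁ (C.fix_orb hx hy₀ hxy₀ h)) ?_ hi
      have hpre : C.ι (n : C.N)⁻¹ y₀ ∈ C.orb y₀ :=
        C.preserves_of_ker (by rw [map_inv, show C.orbHom n = 1 from n.2, inv_one]) hy₀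
      rw [Perm.mul_apply, Perm.inv_eq_iff_eq, Perm.zpow_apply_eq_self_of_apply_eq_self hxy₀]
      rw [map_inv] at hpre
      rw [Perm.mul_apply, Perm.mul_apply, C.fix_orb hx hy₀ hxy₀ hpre, ← Perm.mul_apply,
        mul_inv_cancel, Perm.one_apply]
    · push Not at hex
      obtain ⟨x, hx, hxy₀⟩ := C.move y₀ hy₀
      refine ⟨x, hx, fun e => hxy₀ (by rw [e]; rfl), fun n => key x hx _ (C.conj n x hx) y₀ hy₀ hxy₀
        fun i hi => ?_⟩
      by_contra hne
      exact hex _ (C.R.mul_mem (C.R.inv_mem (C.R.zpow_mem hx i)) (C.conj n x hx)) hne hi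
  -- the action on the cyclic group it generates
  let ν : C.orbHom.ker →* Subgroup.normalizer (Subgroup.zpowers x₀ : Set (Perm Ω)) :=
    (C.ι.comp C.orbHom.ker.subtype).codRestrict _ fun n => by
      have hfwd : ∀ (m : C.orbHom.ker), ∀ w ∈ Subgroup.zpowers x₀,
          C.ι (m : C.N) * w * (C.ι (m : C.N))⁻¹ ∈ Subgroup.zpowers x₀ := by
        rintro m w ⟨i, rfl⟩
        rw [← conj_zpow]
        exact Subgroup.zpow_mem _ (hpow m) i
      refine Subgroup.mem_normalizer_iff.2 fun w => ⟨hfwd n w, fun hw => ?_⟩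
      have h := hfwd n⁻¹ _ hw
      simpa [mul_assoc] using h
  let φ := (Subgroup.zpowers x₀).normalizerMonoidHom.comp ν
  have hcyc : IsCyclic (MulAut (Subgroup.zpowers x₀)) := by
    have hc : Nat.card (Subgroup.zpowers x₀) = r := by
      rw [Nat.card_zpowers, orderOf_eq_prime (C.pow_eq_one hx₀) hx1]
    have : IsCyclic (ZMod (Nat.card (Subgroup.zpowers x₀)))ˣ := by rw [hc]; infer_instance
    exact isCyclic_of_surjective (IsCyclic.mulAutMulEquiv (Subgroup.zpowers x₀)).symm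
      (IsCyclic.mulAutMulEquiv (Subgroup.zpowers x₀)).symm.surjective
  -- two double transpositions fixing every orbit
  have hmet : ∀ n₁ n₂ n₃ n₄ : C.N, ⁅⁅n₁, n₂⁆, ⁅n₃, n₄⁆⁆ ∈ C.orbHom.ker := by
    intro n₁ n₂ n₃ n₄
    rw [MonoidHom.mem_ker, map_commutatorElement, map_commutatorElement, map_commutatorElement,
      commutatorElement_eq_one_iff_mul_comm]
    exact perm_three_metabelian C.card_orbs _ _ _ _
  obtain ⟨t₀₁, h01⟩ := C.surj (swap 0 1)
  obtain ⟨t₁₂, h12⟩ := C.surj (swap 1 2)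
  obtain ⟨t₂₃, h23⟩ := C.surj (swap 2 3)
  obtain ⟨t₁₃, h13⟩ := C.surj (swap 1 3)
  obtain ⟨t₃₂, h32⟩ := C.surj (swap 3 2)
  let v : C.orbHom.ker := ⟨_, hmet t₀₁ t₁₂ t₁₂ t₂₃⟩
  let w : C.orbHom.ker := ⟨_, hmet t₀₁ t₁₃ t₁₃ t₃₂⟩
  let P := C.π.comp C.orbHom.ker.subtype
  have hV2 : P v * P v = 1 := by
    simp only [P, v, MonoidHom.comp_apply, Subgroup.coe_subtype, map_commutatorElement, h01, h12, h23]
    decide
  have hW2 : P w * P w = 1 := by
    simp only [P, w, MonoidHom.comp_apply, Subgroup.coe_subtype, map_commutatorElement, h01, h13, h32]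
    decide
  have hV : P v ≠ 1 := by
    simp only [P, v, MonoidHom.comp_apply, Subgroup.coe_subtype, map_commutatorElement, h01, h12, h23]
    decide
  have hW : P w ≠ 1 := by
    simp only [P, w, MonoidHom.comp_apply, Subgroup.coe_subtype, map_commutatorElement, h01, h13, h32]
    decide
  have hVW : P v * P w ≠ 1 := by
    simp only [P, v, w, MonoidHom.comp_apply, Subgroup.coe_subtype, map_commutatorElement, h01, h12,
      h23, h13, h32]
    decide
  obtain ⟨c, hcφ, hcπ⟩ : ∃ c, φ c = 1 ∧ P c ≠ 1 := by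
    obtain ⟨g, hg⟩ := hcyc.exists_generator
    obtain ⟨a, ha⟩ := Subgroup.mem_zpowers_iff.1 (hg (φ v))
    obtain ⟨b, hb⟩ := Subgroup.mem_zpowers_iff.1 (hg (φ w))
    by_cases hab : a = 0
    · exact ⟨v, by rw [← ha, hab, zpow_zero], hV⟩
    have hd : 0 < Int.gcd a b := Int.gcd_pos_of_ne_zero_left _ hab
    obtain ⟨a', ha'⟩ := Int.gcd_dvd_left a b
    obtain ⟨b', hb'⟩ := Int.gcd_dvd_right a b
    generalize hdd : Int.gcd a b = d at hd ha' hb'
    refine ⟨v ^ b' * w ^ (-a'), ?_, ?_⟩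
    · rw [map_mul, map_zpow, map_zpow, ← ha, ← hb, ← zpow_mul, ← zpow_mul, ← zpow_add]
      have : a * b' + b * -a' = 0 := by
        rw [ha', hb']
        ring
      rw [this, zpow_zero]
    · have hpar : ∀ (σ : Perm (Fin 4)) (e : ℤ), σ * σ = 1 → (Even e → σ ^ e = 1) ∧ (Odd e → σ ^ e = σ) := by
        intro σ e hσ
        constructor <;> rintro ⟨j, rfl⟩
        · rw [← two_mul, zpow_mul, zpow_two, hσ, one_zpow]
        · rw [zpow_add_one, zpow_mul, zpow_two, hσ, one_zpow, one_mul]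
      rw [map_mul, map_zpow, map_zpow]
      rcases Int.even_or_odd b' with hb2 | hb2 <;> rcases Int.even_or_odd a' with ha2 | ha2
      · exfalso
        obtain ⟨i, hi⟩ := ha2
        obtain ⟨j, hj⟩ := hb2
        have h2d : ((2 * d : ℕ) : ℤ) ∣ a := ⟨i, by rw [ha', hi]; push_cast; ring⟩
        have h2d' : ((2 * d : ℕ) : ℤ) ∣ b := ⟨j, by rw [hb', hj]; push_cast; ring⟩
        have h := Int.dvd_gcd h2d h2d'
        rw [hdd] at h
        have := Nat.le_of_dvd hd h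
        omega
      · rw [(hpar _ _ hV2).1 hb2, (hpar _ _ hW2).2 ha2.neg, one_mul]; exact hW
      · rw [(hpar _ _ hV2).2 hb2, (hpar _ _ hW2).1 ha2.neg, mul_one]; exact hV
      · rw [(hpar _ _ hV2).2 hb2, (hpar _ _ hW2).2 ha2.neg]; exact hVW
  have hcx : Commute (C.ι (c : C.N)) x₀ := by
    have h := congrArg (fun e : MulAut (Subgroup.zpowers x₀) =>
      ((e ⟨x₀, Subgroup.mem_zpowers x₀⟩ : Subgroup.zpowers x₀) : Perm Ω)) hcφ
    have h' : C.ι (c : C.N) * x₀ * (C.ι (c : C.N))⁻¹ = x₀ := h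
    exact mul_inv_eq_iff_eq_mul.1 h'
  refine C.false_of_centralizing h2 h4 (by rw [C.card]; omega) hA (c := (c : C.N)) ?_
    (fun y hy => C.preserves_of_ker c.2 hy) hcπ
  intro u hu
  have hz : C.ι (c : C.N) * u * (C.ι (c : C.N))⁻¹ * u⁻¹ = 1 := by
    have hzR : C.ι (c : C.N) * u * (C.ι (c : C.N))⁻¹ * u⁻¹ ∈ C.R :=
      C.R.mul_mem (C.conj c u hu) (C.R.inv_mem hu)
    have hfix : ∀ y, (∀ i, C.a i ≠ y) → x₀ y ≠ y →
        (C.ι (c : C.N) * u * (C.ι (c : C.N))⁻¹ * u⁻¹) y = y := by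
      intro y hy hxy
      obtain ⟨i, hi⟩ := C.eq_zpow_on hx₀ hu hy hxy
      have hm : u⁻¹ y ∈ C.orb y := C.smul_mem_orb (C.R.inv_mem hu) y
      have hm' : (C.ι (c : C.N))⁻¹ (u⁻¹ y) ∈ C.orb y := by
        have h := C.preserves_of_ker (n := (c : C.N)⁻¹)
          (by rw [map_inv, show C.orbHom c = 1 from c.2, inv_one]) (C.orb_outside hy hm)
        rwa [C.orb_eq_of_mem hm, map_inv] at h
      rw [Perm.mul_apply, Perm.mul_apply, Perm.mul_apply, hi _ hm', ← Perm.mul_apply,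
        (hcx.zpow_right i).eq, Perm.mul_apply, ← Perm.mul_apply (C.ι (c : C.N)), mul_inv_cancel,
        Perm.one_apply, ← hi _ hm, ← Perm.mul_apply, mul_inv_cancel, Perm.one_apply]
    refine C.eq_one_of_one_orbit h2 hA (by norm_num) (by omega) hzR fun y₁ y₂ h₁ h₂ => ?_
    have hy₁ : ∀ i, C.a i ≠ y₁ := fun i e => h₁ (e ▸ C.fix _ hzR i)
    have hy₂ : ∀ i, C.a i ≠ y₂ := fun i e => h₂ (e ▸ C.fix _ hzR i)
    by_contra hne
    exact hx1 (C.two_fixed h2 hA hx₀ hy₁ hy₂ hne (by_contra fun h => h₁ (hfix y₁ hy₁ h))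
      (by_contra fun h => h₂ (hfix y₂ hy₂ h)))
  exact mul_inv_eq_iff_eq_mul.1 (mul_inv_eq_one.1 hz)

end Cfg

end Cfsg.Agent.Classical.PrimeTwin
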