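import Cfsg.Agent.Lib.Classical.PrimeTwin.Twin
import Cfsg.Agent.Lib.Classical.PrimeTwin.WittThree

/-!
Groups of prime degree `q + 2` with `q = 2 r + 1` or `q = 3 r + 2` are alternating.
-/

set_option autoImplicit false

namespace Cfsg.Agent.Classical.PrimeTwin

open Equiv MulAction

universe u

section Frattini

variable {Ω : Type u} [Fintype Ω] [DecidableEq Ω] {G : Subgroup (Perm Ω)} {k : ℕ}

/-- The stabiliser in `G` of a finite labelled set of points. -/
def labelStab (G : Subgroup (Perm Ω)) (a : Fin k ↪ Ω) : Subgroup (Perm Ω) where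
  carrier := {g | g ∈ G ∧ ∃ σ : Perm (Fin k), ∀ i, g (a i) = a (σ i)}
  one_mem' := ⟨G.one_mem, 1, fun _ => rfl⟩
  mul_mem' := by
    rintro g h ⟨hg, σ, hσ⟩ ⟨hh, τ, hτ⟩
    exact ⟨G.mul_mem hg hh, σ * τ, fun i => by rw [Perm.mul_apply, hτ, hσ, Perm.mul_apply]⟩
  inv_mem' := by
    rintro g ⟨hg, σ, hσ⟩
    exact ⟨G.inv_mem hg, σ⁻¹, fun i => by
      rw [Perm.inv_eq_iff_eq, hσ, ← Perm.mul_apply, mul_inv_cancel, Perm.one_apply]⟩

/-- The permutation of the labels. -/
noncomputable def labelHom (G : Subgroup (Perm Ω)) (a : Fin k ↪ Ω) :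
    labelStab G a →* Perm (Fin k) :=
  MonoidHom.mk' (fun g => g.2.2.choose) fun g h => Equiv.ext fun i => a.injective (by
    rw [← (g * h).2.2.choose_spec, Perm.mul_apply, ← g.2.2.choose_spec, ← h.2.2.choose_spec]
    rfl)

theorem labelHom_spec {a : Fin k ↪ Ω} (g : labelStab G a) (i : Fin k) :
    (g : Perm Ω) (a i) = a (labelHom G a g i) := g.2.2.choose_spec i

theorem nonempty_cfg {r m : ℕ} [Fact r.Prime] (hk : IsMultiplyPretransitive G Ω k)
    (hk1 : IsMultiplyPretransitive G Ω (k + 1)) (hcard : Fintype.card Ω = k + m * r)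
    (hsmall : m < r) (hksmall : k < r) : Nonempty (Cfg G r k m) := by
  classical
  obtain ⟨a⟩ : Nonempty (Fin k ↪ Ω) := by
    rw [Function.Embedding.nonempty_iff_card_le, Fintype.card_fin, hcard]
    omega
  let π := labelHom G a
  let R₀ : Sylow r π.ker := default
  let T : Subgroup (labelStab G a) := (R₀ : Subgroup π.ker).map π.ker.subtype
  refine ⟨{
    N := Subgroup.normalizer (T : Set (labelStab G a))
    ι := (labelStab G a).subtype.comp (Subgroup.normalizer (T : Set (labelStab G a))).subtype
    π := π.comp (Subgroup.normalizer (T : Set (labelStab G a))).subtype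
    a := a
    surj := ?_
    compat := fun n i => labelHom_spec (n : labelStab G a) i
    mem := fun n => (n : labelStab G a).2.1
    R := T.map (labelStab G a).subtype
    le := fun x hx => by
      obtain ⟨y, -, rfl⟩ := hx
      exact y.2.1
    isP := ((R₀.isPGroup'.map _).map _)
    conj := ?_
    fix := ?_
    move := ?_
    card := hcard
    small := hsmall
    ksmall := hksmall }⟩
  · intro σ
    obtain ⟨⟨g, hgG⟩, hg⟩ := hk.exists_smul_eq a (σ.toEmbedding.trans a)
    have hg' : ∀ i, g (a i) = a (σ i) := fun i => DFunLike.congr_fun hg i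
    let g' : labelStab G a := ⟨g, hgG, σ, hg'⟩
    have hπ : π g' = σ := Equiv.ext fun i => a.injective (by rw [← labelHom_spec, ← hg'])
    have hmem : g' ∈ Subgroup.normalizer (T : Set (labelStab G a)) ⊔ π.ker := by
      rw [Sylow.normalizer_sup_eq_top R₀]
      trivial
    obtain ⟨n, hn, f, hf, hnf⟩ := Subgroup.mem_sup_of_normal_right.1 hmem
    refine ⟨⟨n, hn⟩, ?_⟩
    show π n = σ
    rw [← hπ, ← hnf, map_mul, MonoidHom.mem_ker.1 hf, mul_one]
  · rintro ⟨n, hn⟩ _ ⟨y, hy, rfl⟩
    exact ⟨n * y * n⁻¹, (Subgroup.mem_normalizer_iff.1 hn y).1 hy, rfl⟩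
  · rintro _ ⟨y, ⟨z, -, rfl⟩, rfl⟩ i
    show ((z : labelStab G a) : Perm Ω) (a i) = a i
    rw [labelHom_spec, show labelHom G a (z : labelStab G a) = 1 from z.2]
    rfl
  · intro y hy
    by_contra hcon
    push Not at hcon
    let S : Subgroup π.ker := MulAction.stabilizer π.ker y
    have hle : (R₀ : Subgroup π.ker) ≤ S := fun z hz =>
      hcon _ ⟨(z : labelStab G a), ⟨z, hz, rfl⟩, rfl⟩
    refine R₀.not_dvd_index (dvd_trans ?_ (Subgroup.index_dvd_of_le hle))
    have horb : MulAction.orbit π.ker y = (Set.range a)ᶜ := by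
      ext z
      constructor
      · rintro ⟨f, rfl⟩ ⟨i, hi⟩
        refine hy i (((f : labelStab G a) : Perm Ω).injective ?_)
        rw [labelHom_spec, show labelHom G a (f : labelStab G a) = 1 from f.2]
        exact hi
      · intro hz
        obtain ⟨⟨g, hgG⟩, hga, hgy⟩ := fix_of_succ hk1 a hy (fun i e => hz ⟨i, e⟩)
        refine ⟨⟨⟨g, hgG, 1, fun i => hga i⟩, MonoidHom.mem_ker.2 (Equiv.ext fun i =>
          a.injective ((labelHom_spec _ i).symm.trans (hga i)))⟩, hgy⟩
    rw [MulAction.index_stabilizer, horb, Set.ncard_compl,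
      Set.ncard_range_of_injective a.injective, Nat.card_eq_fintype_card, Nat.card_fin, hcard]
    exact ⟨m, by rw [Nat.add_sub_cancel_left, mul_comm]⟩

end Frattini

variable {G Ω : Type*} [Group G] [MulAction G Ω] [Finite G] [FaithfulSMul G Ω] [Fintype Ω]
  [DecidableEq Ω] {p q : ℕ}

/-- The alternating group is the only possibility. -/
theorem Twin.iso_alternating (h : Twin G Ω p q) {r : ℕ} (hr : r.Prime)
    (hcases : (p = 2 * r + 3 ∧ 3 < r) ∨ (p = 3 * r + 4 ∧ 4 < r)) :
    Nonempty (G ≃* alternatingGroup (Fin p)) := by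
  classical
  have : Fact r.Prime := ⟨hr⟩
  have : Fact p.Prime := ⟨h.hp⟩
  have hq5 := h.hq5
  have hpq := h.hpq
  have hcardΩ : Fintype.card Ω = p := by rw [← Nat.card_eq_fintype_card, h.card]
  have hle : ∀ k, k ≤ 5 → IsMultiplyPretransitive (toPermHom G Ω).range Ω k := fun k hk =>
    have := h.five
    range_multiply (isMultiplyPretransitive_of_le hk (by rw [h.card]; omega))
  have halt : alternatingGroup Ω ≤ (toPermHom G Ω).range := by
    rcases hcases with ⟨he, h3⟩ | ⟨he, h4⟩
    · obtain ⟨C⟩ := nonempty_cfg (r := r) (m := 2) (hle 3 (by norm_num)) (hle 4 (by norm_num))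
        (by omega) (by omega) (by omega)
      exact C.alt_two (hle 3 (by norm_num)) (hle 2 (by norm_num))
    · obtain ⟨C⟩ := nonempty_cfg (r := r) (m := 3) (hle 4 (by norm_num)) (hle 5 le_rfl)
        (by omega) (by omega) (by omega)
      exact C.alt_three (hle 4 (by norm_num)) (hle 2 (by norm_num))
  have : Nontrivial Ω := Fintype.one_lt_card_iff_nontrivial.1 (by omega)
  have hinj : Function.Injective (toPermHom G Ω) := MulAction.toPerm_injective
  have hrange : (toPermHom G Ω).range = alternatingGroup Ω := by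
    have hd : (toPermHom G Ω).range.index ∣ 2 := by
      have := Subgroup.index_dvd_of_le halt
      rwa [alternatingGroup.index_eq_two] at this
    rcases (Nat.dvd_prime Nat.prime_two).1 hd with h1 | h2
    · exfalso
      obtain ⟨a, b, hab⟩ := Fintype.exists_pair_of_one_lt_card (show 1 < Fintype.card Ω by omega)
      have hG : Nat.card G = p.factorial := by
        rw [Nat.card_congr (MonoidHom.ofInjective hinj).toEquiv, Subgroup.index_eq_one.1 h1,
          Subgroup.card_top, Nat.card_perm, h.card]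
      have hc := h.congr hab
      have he := h.card_eq hab
      rw [hG] at he
      have hM : Nat.card {g : G // g • a = a ∧ g • b = b} = (p - 2).factorial := by
        have h' : p.factorial = p * (p - 1) * (p - 2).factorial := by
          rw [← Nat.mul_factorial_pred h.hp.ne_zero,
            ← Nat.mul_factorial_pred (show p - 1 ≠ 0 by omega), mul_assoc, Nat.sub_sub]
        exact Nat.eq_of_mul_eq_mul_left (Nat.mul_pos h.hp.pos (by omega)) (he.symm.trans h')
      rw [hM] at hc
      have hw : ((p - 1).factorial : ZMod p) = -1 := ZMod.wilsons_lemma p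
      rw [← Nat.mul_factorial_pred (show p - 1 ≠ 0 by omega), Nat.sub_sub, Nat.cast_mul,
        Nat.cast_sub h.hp.one_le, ZMod.natCast_self, zero_sub, Nat.cast_one, neg_one_mul, neg_inj] at hw
      have h2 : ((2 * (p - 2).factorial - 1 : ℕ) : ZMod p) = 0 :=
        (ZMod.natCast_eq_zero_iff _ _).2 hc
      rw [Nat.cast_sub (by have := (p - 2).factorial_pos; omega), Nat.cast_mul, hw] at h2
      norm_num at h2
    · refine (Subgroup.eq_of_le_of_card_ge halt (le_of_eq ?_)).symm
      have e1 := (toPermHom G Ω).range.card_mul_index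
      have e2 := (alternatingGroup Ω).card_mul_index
      rw [h2] at e1
      rw [alternatingGroup.index_eq_two] at e2
      omega
  exact ⟨(MonoidHom.ofInjective hinj).trans ((MulEquiv.subgroupCongr hrange).trans
    (Equiv.altCongrHom (Fintype.equivFinOfCardEq hcardΩ)))⟩

end Cfsg.Agent.Classical.PrimeTwin
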