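import Cfsg.Agent.Lib.Block.PrimeDegree

/-!
Small lemmas on transitivity: solvable groups of prime degree, adding a point, and rank three
actions with coprime subdegrees.
-/

set_option autoImplicit false

namespace Cfsg.Agent.Classical.PrimeTwin

open MulAction
open scoped Pointwise

/-- A solvable transitive group of prime degree `q` has order dividing `q * (q - 1)`. -/
theorem card_dvd_of_solvable {X : Type*} [Fintype X] [DecidableEq X] {q : ℕ} [Fact q.Prime]
    (hX : Fintype.card X = q) (A : Subgroup (Equiv.Perm X)) [IsPretransitive A X]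
    (hA : Group.IsSolvable A) : Nat.card A ∣ q * (q - 1) := by
  classical
  have hq : q.Prime := Fact.out
  have hqA := Cfsg.Agent.Block.primeDeg_dvd_card hX A
  have : IsPreprimitive A X := IsPreprimitive.of_prime_card (by rw [Nat.card_eq_fintype_card, hX]; exact hq)
  obtain ⟨n, hn⟩ := hA.solvable
  obtain ⟨m, hm, hm'⟩ : ∃ m, derivedSeries A m ≠ ⊥ ∧ derivedSeries A (m + 1) = ⊥ := by
    induction n with
    | zero =>
      exfalso
      rw [derivedSeries_zero] at hn
      have h1 : Nat.card A = 1 := by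
        rw [← Subgroup.card_top (G := A), hn, Subgroup.card_bot]
      rw [h1] at hqA
      exact hq.ne_one (Nat.eq_one_of_dvd_one hqA)
    | succ k ih => exact (em (derivedSeries A k = ⊥)).elim ih fun h => ⟨k, h, hn⟩
  have := derivedSeries_normal A m
  have hcomm : derivedSeries A m ≤ Subgroup.centralizer (derivedSeries A m : Set A) := by
    rw [← Subgroup.commutator_eq_bot_iff_le_centralizer, ← derivedSeries_succ]
    exact hm'
  have : IsPretransitive (derivedSeries A m) X :=
    IsQuasiPreprimitive.isPretransitive_of_normal (fun h => hm (by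
      rw [Subgroup.eq_bot_iff_forall]
      intro x hx
      apply Subtype.ext
      refine Equiv.ext fun z => ?_
      have hz : z ∈ fixedPoints (derivedSeries A m) X := h ▸ Set.mem_univ z
      exact mem_fixedPoints.1 hz ⟨x, hx⟩))
  obtain ⟨z⟩ : Nonempty X := Fintype.card_pos_iff.1 (hX ▸ hq.pos)
  have hinj : Function.Injective (fun g : derivedSeries A m => g • z) := by
    intro g g' hg
    apply Subtype.ext; apply Subtype.ext
    refine Equiv.ext fun y => ?_
    obtain ⟨k, rfl⟩ := MulAction.exists_smul_eq (derivedSeries A m) z y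
    show g • k • z = g' • k • z
    have e1 : g * k = k * g := Subtype.ext (hcomm k.2 _ g.2)
    have e2 : g' * k = k * g' := Subtype.ext (hcomm k.2 _ g'.2)
    rw [← mul_smul, ← mul_smul, e1, e2, mul_smul, mul_smul, show g • z = g' • z from hg]
  have hcard : Nat.card (derivedSeries A m) = q := by
    rw [Nat.card_eq_of_bijective _ ⟨hinj, fun y => MulAction.exists_smul_eq _ z y⟩,
      Nat.card_eq_fintype_card, hX]
  let P : Sylow q A := default
  have hP : (P : Subgroup A) = derivedSeries A m := by
    obtain ⟨Q, hQ⟩ := (IsPGroup.of_card (p := q) (n := 1) (by rw [hcard, pow_one])).exists_le_sylow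
      (P := derivedSeries A m)
    have hQe : derivedSeries A m = (Q : Subgroup A) :=
      Subgroup.eq_of_le_of_card_ge hQ (by rw [Cfsg.Agent.Block.primeDeg_card_sylow hX A Q, hcard])
    have hQn : (Q : Subgroup A).Normal := hQe ▸ inferInstance
    have := Sylow.unique_of_normal Q hQn
    rw [Subsingleton.elim P Q, hQe]
  have h := Cfsg.Agent.Block.primeDeg_card_normalizer_dvd hX A P
  have htop : Subgroup.normalizer ((P : Subgroup A) : Set A) = ⊤ := by
    rw [hP]
    exact Subgroup.normalizer_eq_top_iff.2 inferInstance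
  rwa [htop, Subgroup.card_top] at h

section Step

variable {G Ω : Type*} [Group G] [MulAction G Ω] {k : ℕ}

/-- Adding a point to multiple transitivity. -/
theorem succ_of_fix (hk : IsMultiplyPretransitive G Ω k) (a : Fin k ↪ Ω)
    (h : ∀ u v, (∀ i, a i ≠ u) → (∀ i, a i ≠ v) → ∃ g : G, (∀ i, g • a i = a i) ∧ g • u = v) :
    IsMultiplyPretransitive G Ω (k + 1) := by
  refine ⟨fun x y => ?_⟩
  obtain ⟨g, hg⟩ := hk.exists_smul_eq (Fin.castSuccEmb.trans x) a
  obtain ⟨g', hg'⟩ := hk.exists_smul_eq (Fin.castSuccEmb.trans y) a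
  have e1 : ∀ i, g • x (Fin.castSucc i) = a i := fun i => DFunLike.congr_fun hg i
  have e2 : ∀ i, g' • y (Fin.castSucc i) = a i := fun i => DFunLike.congr_fun hg' i
  obtain ⟨f, hf, hf'⟩ := h (g • x (Fin.last k)) (g' • y (Fin.last k))
    (fun i e => Fin.castSucc_ne_last i (x.injective (MulAction.injective g ((e1 i).trans e))))
    (fun i e => Fin.castSucc_ne_last i (y.injective (MulAction.injective g' ((e2 i).trans e))))
  refine ⟨g'⁻¹ * f * g, Function.Embedding.ext fun i => ?_⟩
  show (g'⁻¹ * f * g) • x i = y i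
  rw [mul_smul, mul_smul, inv_smul_eq_iff]
  induction i using Fin.lastCases with
  | last => exact hf'
  | cast i => rw [e1, hf, e2]

/-- Multiple transitivity gives transitive pointwise stabilisers. -/
theorem fix_of_succ (hk : IsMultiplyPretransitive G Ω (k + 1)) (a : Fin k ↪ Ω) {u v : Ω}
    (hu : ∀ i, a i ≠ u) (hv : ∀ i, a i ≠ v) : ∃ g : G, (∀ i, g • a i = a i) ∧ g • u = v := by
  have inj : ∀ w, (∀ i, a i ≠ w) → Function.Injective (Fin.snoc (α := fun _ => Ω) (⇑a) w) := by
    intro w hw i j hij
    induction i using Fin.lastCases with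
    | last =>
      induction j using Fin.lastCases with
      | last => rfl
      | cast j => simp only [Fin.snoc_last, Fin.snoc_castSucc] at hij; exact absurd hij.symm (hw j)
    | cast i =>
      induction j using Fin.lastCases with
      | last => simp only [Fin.snoc_last, Fin.snoc_castSucc] at hij; exact absurd hij (hw i)
      | cast j =>
        simp only [Fin.snoc_castSucc] at hij
        rw [a.injective hij]
  obtain ⟨g, hg⟩ := hk.exists_smul_eq ⟨_, inj u hu⟩ ⟨_, inj v hv⟩
  refine ⟨g, fun i => ?_, ?_⟩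
  · have := DFunLike.congr_fun hg (Fin.castSucc i)
    simpa [Fin.snoc_castSucc] using this
  · have := DFunLike.congr_fun hg (Fin.last k)
    simpa [Fin.snoc_last] using this

end Step

section RankThree

variable {H Y : Type*} [Group H] [MulAction H Y] [Fintype Y] [DecidableEq Y]

/-- The rank three argument when the first suborbit is not longer than the second. -/
theorem no_rank_three_aux [IsPreprimitive H Y] {b c d : Y} (hcb : c ≠ b) (hdb : d ≠ b)
    (hsep : ∀ h : H, h • b = b → h • c ≠ d)
    (hcov : ∀ z, z ≠ b → ∃ h : H, h • b = b ∧ (h • c = z ∨ h • d = z))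
    (hq : (Fintype.card Y - 1).Prime) (hodd : Odd (Fintype.card Y - 1))
    (hle : Nat.card {y // ∃ h : H, h • b = b ∧ h • c = y} ≤
      Nat.card {y // ∃ h : H, h • b = b ∧ h • d = y}) : False := by
  classical
  -- the two orbitals
  let R : Y → Y → Prop := fun x y => ∃ h : H, h • b = x ∧ h • c = y
  let R' : Y → Y → Prop := fun x y => ∃ h : H, h • b = x ∧ h • d = y
  let O : Finset Y := Finset.univ.filter fun y => R b y
  let O' : Finset Y := Finset.univ.filter fun y => R' b y
  have hdisj : Disjoint O O' := by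
    rw [Finset.disjoint_left]
    rintro y hy hy'
    obtain ⟨h, hb, hc⟩ := (Finset.mem_filter.1 hy).2
    obtain ⟨h', hb', hd⟩ := (Finset.mem_filter.1 hy').2
    refine hsep (h'⁻¹ * h) (by rw [mul_smul, hb, inv_smul_eq_iff, hb']) ?_
    rw [mul_smul, hc, inv_smul_eq_iff, hd]
  have hOb : b ∉ O := fun hy => by
    obtain ⟨h, hb, hc⟩ := (Finset.mem_filter.1 hy).2
    exact hcb (MulAction.injective h (hc.trans hb.symm))
  have hOb' : b ∉ O' := fun hy => by
    obtain ⟨h, hb, hc⟩ := (Finset.mem_filter.1 hy).2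
    exact hdb (MulAction.injective h (hc.trans hb.symm))
  have hcO : c ∈ O := Finset.mem_filter.2 ⟨Finset.mem_univ _, 1, one_smul _ _, one_smul _ _⟩
  have hdO : d ∈ O' := Finset.mem_filter.2 ⟨Finset.mem_univ _, 1, one_smul _ _, one_smul _ _⟩
  have hunion : O ∪ O' = Finset.univ.erase b := by
    ext y
    simp only [Finset.mem_union, Finset.mem_erase, Finset.mem_univ, and_true]
    refine ⟨fun h e => h.elim (fun h => hOb (e ▸ h)) fun h => hOb' (e ▸ h), fun hy => ?_⟩
    obtain ⟨h, hb, hc | hd⟩ := hcov y hy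
    · exact Or.inl (Finset.mem_filter.2 ⟨Finset.mem_univ _, h, hb, hc⟩)
    · exact Or.inr (Finset.mem_filter.2 ⟨Finset.mem_univ _, h, hb, hd⟩)
  have hsum : O.card + O'.card = Fintype.card Y - 1 := by
    rw [← Finset.card_union_of_disjoint hdisj, hunion, Finset.card_erase_of_mem (Finset.mem_univ b),
      Finset.card_univ]
  have hne : O.card ≠ O'.card := fun e => by
    rw [e, ← two_mul] at hsum
    exact Nat.not_even_iff_odd.2 hodd (hsum ▸ even_two_mul _)
  -- invariance
  have hinv : ∀ (g : H) x y, R (g • x) (g • y) ↔ R x y := by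
    intro g x y
    constructor
    · rintro ⟨h, hb, hc⟩
      exact ⟨g⁻¹ * h, by rw [mul_smul, hb, inv_smul_smul], by rw [mul_smul, hc, inv_smul_smul]⟩
    · rintro ⟨h, hb, hc⟩
      exact ⟨g * h, by rw [mul_smul, hb], by rw [mul_smul, hc]⟩
  have hout : ∀ x, (Finset.univ.filter fun y => R x y).card = O.card := by
    intro x
    obtain ⟨g, rfl⟩ := MulAction.exists_smul_eq H b x
    refine (Finset.card_bij (fun y _ => g • y) (fun y hy => ?_) (fun y _ y' _ e => MulAction.injective g e)
      (fun y hy => ⟨g⁻¹ • y, ?_, smul_inv_smul g y⟩)).symm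
    · exact Finset.mem_filter.2 ⟨Finset.mem_univ _, (hinv g b y).2 (Finset.mem_filter.1 hy).2⟩
    · refine Finset.mem_filter.2 ⟨Finset.mem_univ _, (hinv g b (g⁻¹ • y)).1 ?_⟩
      rw [smul_inv_smul]
      exact (Finset.mem_filter.1 hy).2
  have hin : ∀ x, (Finset.univ.filter fun y => R y x).card =
      (Finset.univ.filter fun y => R y b).card := by
    intro x
    obtain ⟨g, rfl⟩ := MulAction.exists_smul_eq H b x
    refine (Finset.card_bij (fun y _ => g • y) (fun y hy => ?_) (fun y _ y' _ e => MulAction.injective g e)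
      (fun y hy => ⟨g⁻¹ • y, ?_, smul_inv_smul g y⟩)).symm
    · exact Finset.mem_filter.2 ⟨Finset.mem_univ _, (hinv g y b).2 (Finset.mem_filter.1 hy).2⟩
    · refine Finset.mem_filter.2 ⟨Finset.mem_univ _, (hinv g (g⁻¹ • y) b).1 ?_⟩
      rw [smul_inv_smul]
      exact (Finset.mem_filter.1 hy).2
  have hIn : (Finset.univ.filter fun y => R y b).card = O.card := by
    have h1 := Finset.sum_card_bipartiteAbove_eq_sum_card_bipartiteBelow
      (r := R) (s := (Finset.univ : Finset Y)) (t := (Finset.univ : Finset Y))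
    simp only [Finset.bipartiteAbove, Finset.bipartiteBelow] at h1
    rw [Finset.sum_congr rfl (fun x _ => hout x), Finset.sum_congr rfl (fun x _ => hin x),
      Finset.sum_const, Finset.sum_const, Finset.card_univ, smul_eq_mul, smul_eq_mul] at h1
    exact (Nat.eq_of_mul_eq_mul_left (Fintype.card_pos_iff.2 ⟨b⟩) h1).symm
  have hsym : ∀ x y, R x y → R y x := by
    intro x y hxy
    obtain ⟨g, rfl, rfl⟩ := hxy
    rw [hinv]
    by_contra hcon
    have hsub : (Finset.univ.filter fun y => R y b) = O' := by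
      refine Finset.eq_of_subset_of_card_le (fun y hy => ?_) ?_
      · have hy := (Finset.mem_filter.1 hy).2
        have hyb : y ≠ b := by
          rintro rfl
          exact hOb (Finset.mem_filter.2 ⟨Finset.mem_univ _, hy⟩)
        obtain ⟨h, hb, hc | hd⟩ := hcov y hyb
        · refine absurd ((hinv h c b).1 ?_) hcon
          rw [hc, hb]; exact hy
        · exact Finset.mem_filter.2 ⟨Finset.mem_univ _, h, hb, hd⟩
      · -- the in-neighbours form a union of suborbits
        obtain ⟨y, hy⟩ : (Finset.univ.filter fun y => R y b).Nonempty :=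
          Finset.card_pos.1 (hIn ▸ Finset.card_pos.2 ⟨c, hcO⟩)
        have hy := (Finset.mem_filter.1 hy).2
        have hyb : y ≠ b := by
          rintro rfl
          exact hOb (Finset.mem_filter.2 ⟨Finset.mem_univ _, hy⟩)
        obtain ⟨h, hb, hc | hd⟩ := hcov y hyb
        · refine absurd ((hinv h c b).1 ?_) hcon
          rw [hc, hb]; exact hy
        · refine Finset.card_le_card fun z hz => ?_
          obtain ⟨h', hb', hd'⟩ := (Finset.mem_filter.1 hz).2
          refine Finset.mem_filter.2 ⟨Finset.mem_univ _, ?_⟩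
          have h1 : R (h • d) (h • b) := by rw [hd, hb]; exact hy
          have h2 := (hinv h' d b).2 ((hinv h d b).1 h1)
          rwa [hb', hd'] at h2
    exact hne (hIn.symm.trans (congrArg Finset.card hsub))
  -- the suborbits have coprime lengths
  have hk1 : 0 < O.card := Finset.card_pos.2 ⟨c, hcO⟩
  have hl1 : 0 < O'.card := Finset.card_pos.2 ⟨d, hdO⟩
  have hkl : O.card < O'.card := by
    refine lt_of_le_of_ne ?_ hne
    simpa [O, O', R, R', Nat.card_eq_fintype_card, Fintype.card_subtype] using hle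
  have hcop : Nat.Coprime O'.card O.card := by
    have hdvd : Nat.gcd O'.card O.card ∣ Fintype.card Y - 1 :=
      hsum ▸ dvd_add (Nat.gcd_dvd_right _ _) (Nat.gcd_dvd_left _ _)
    refine (hq.eq_one_or_self_of_dvd _ hdvd).resolve_right fun h => ?_
    have := Nat.gcd_le_right O'.card hk1
    omega
  -- count the edges between the suborbits
  have hconstL : ∀ y ∈ O, (O'.filter fun z => R y z).card = (O'.filter fun z => R c z).card := by
    intro y hy
    obtain ⟨h, hb, hc⟩ := (Finset.mem_filter.1 hy).2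
    have hO' : ∀ (h : H), h • b = b → ∀ z ∈ O', h • z ∈ O' := fun h hb z hz => by
      obtain ⟨h', hb', hd'⟩ := (Finset.mem_filter.1 hz).2
      exact Finset.mem_filter.2 ⟨Finset.mem_univ _, h * h', by rw [mul_smul, hb', hb], by rw [mul_smul, hd']⟩
    refine (Finset.card_bij (fun z _ => h • z) (fun z hz => ?_)
      (fun z _ z' _ e => MulAction.injective h e) fun z hz => ⟨h⁻¹ • z, ?_, smul_inv_smul h z⟩).symm
    · obtain ⟨hz1, hz2⟩ := Finset.mem_filter.1 hz
      exact Finset.mem_filter.2 ⟨hO' h hb z hz1, hc ▸ (hinv h c z).2 hz2⟩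
    · obtain ⟨hz1, hz2⟩ := Finset.mem_filter.1 hz
      refine Finset.mem_filter.2 ⟨hO' h⁻¹ (by rw [inv_smul_eq_iff, hb]) z hz1, ?_⟩
      rw [← hinv h, hc, smul_inv_smul]
      exact hz2
  have hconstR : ∀ z ∈ O', (O.filter fun y => R y z).card = (O.filter fun y => R y d).card := by
    intro z hz
    obtain ⟨h, hb, hd⟩ := (Finset.mem_filter.1 hz).2
    have hO : ∀ (h : H), h • b = b → ∀ y ∈ O, h • y ∈ O := fun h hb y hy => by
      obtain ⟨h', hb', hc'⟩ := (Finset.mem_filter.1 hy).2
      exact Finset.mem_filter.2 ⟨Finset.mem_univ _, h * h', by rw [mul_smul, hb', hb], by rw [mul_smul, hc']⟩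
    refine (Finset.card_bij (fun y _ => h • y) (fun y hy => ?_)
      (fun y _ y' _ e => MulAction.injective h e) fun y hy => ⟨h⁻¹ • y, ?_, smul_inv_smul h y⟩).symm
    · obtain ⟨hy1, hy2⟩ := Finset.mem_filter.1 hy
      exact Finset.mem_filter.2 ⟨hO h hb y hy1, hd ▸ (hinv h y d).2 hy2⟩
    · obtain ⟨hy1, hy2⟩ := Finset.mem_filter.1 hy
      refine Finset.mem_filter.2 ⟨hO h⁻¹ (by rw [inv_smul_eq_iff, hb]) y hy1, ?_⟩
      rw [← hinv h, hd, smul_inv_smul]
      exact hy2
  have hcount : O.card * (O'.filter fun z => R c z).card = O'.card * (O.filter fun y => R y d).card := by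
    have h1 := Finset.sum_card_bipartiteAbove_eq_sum_card_bipartiteBelow (r := R) (s := O) (t := O')
    simp only [Finset.bipartiteAbove, Finset.bipartiteBelow] at h1
    rwa [Finset.sum_congr rfl hconstL, Finset.sum_congr rfl hconstR, Finset.sum_const,
      Finset.sum_const, smul_eq_mul, smul_eq_mul] at h1
  have hmu : (O'.filter fun z => R c z).card = 0 := by
    have h1 : (O'.filter fun z => R c z).card < O.card := by
      rw [← hout c]
      refine Finset.card_lt_card ⟨fun z hz => Finset.mem_filter.2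
        ⟨Finset.mem_univ _, (Finset.mem_filter.1 hz).2⟩, fun hsub => hOb' ?_⟩
      exact (Finset.mem_filter.1 (hsub (Finset.mem_filter.2
        ⟨Finset.mem_univ _, hsym _ _ (Finset.mem_filter.1 hcO).2⟩))).1
    by_contra h0
    have := Nat.le_of_dvd (Nat.pos_of_ne_zero h0) (hcop.dvd_of_dvd_mul_left ⟨_, hcount⟩)
    omega
  have htrans : ∀ x y z, R x y → R y z → z = x ∨ R x z := by
    intro x y z hxy hyz
    obtain ⟨g, rfl, rfl⟩ := hxy
    obtain ⟨w, rfl⟩ : ∃ w, g • w = z := ⟨g⁻¹ • z, smul_inv_smul g z⟩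
    rw [hinv] at hyz ⊢
    by_cases hwb : w = b
    · exact Or.inl (by rw [hwb])
    obtain ⟨h, hb, hc | hd⟩ := hcov w hwb
    · exact Or.inr ⟨h, hb, hc⟩
    · exfalso
      have : w ∈ O'.filter fun z => R c z :=
        Finset.mem_filter.2 ⟨Finset.mem_filter.2 ⟨Finset.mem_univ _, h, hb, hd⟩, hyz⟩
      rw [Finset.card_eq_zero.1 hmu] at this
      exact Finset.notMem_empty _ this
  -- the closed neighbourhoods are blocks
  let B : Y → Set Y := fun x => {z | z = x ∨ R x z}
  have hBeq : ∀ x z, z ∈ B x → B x ⊆ B z := by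
    rintro x z (rfl | hxz)
    · exact subset_rfl
    rintro w (rfl | hxw)
    · exact Or.inr (hsym _ _ hxz)
    · exact htrans _ _ _ (hsym _ _ hxz) hxw
  have hBsymm : ∀ x z, z ∈ B x → x ∈ B z := fun x z hz => hz.imp Eq.symm (hsym x z)
  have hBsmul : ∀ (g : H) x, g • B x = B (g • x) := by
    intro g x
    ext z
    obtain ⟨w, rfl⟩ : ∃ w, g • w = z := ⟨g⁻¹ • z, smul_inv_smul g z⟩
    rw [Set.smul_mem_smul_set_iff]
    exact or_congr (MulAction.injective g).eq_iff.symm (hinv g x w).symm
  have hblock : IsBlock H (B b) := by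
    intro g₁ g₂ hne'
    rw [Set.disjoint_left]
    intro z hz1 hz2
    rw [hBsmul, hBsmul] at hne'
    rw [hBsmul] at hz1 hz2
    exact hne' ((hBeq _ _ hz1).trans (hBeq _ _ (hBsymm _ _ hz2)) |>.antisymm
      ((hBeq _ _ hz2).trans (hBeq _ _ (hBsymm _ _ hz1))))
  rcases IsPreprimitive.isTrivialBlock_of_isBlock hblock with hs | hu
  · exact hcb (hs (Or.inr (Finset.mem_filter.1 hcO).2) (Or.inl rfl))
  · rcases (show d ∈ B b from hu ▸ Set.mem_univ d) with h | ⟨h, hb, hc⟩
    · exact hdb h
    · exact hsep h hb hc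

/-- A primitive group whose point stabiliser has two orbits on an odd prime number of other points
does not exist. -/
theorem no_rank_three_of_prime [IsPreprimitive H Y] {b c d : Y} (hcb : c ≠ b) (hdb : d ≠ b)
    (hsep : ∀ h : H, h • b = b → h • c ≠ d)
    (hcov : ∀ z, z ≠ b → ∃ h : H, h • b = b ∧ (h • c = z ∨ h • d = z))
    (hq : (Fintype.card Y - 1).Prime) (hodd : Odd (Fintype.card Y - 1)) : False := by
  rcases le_total (Nat.card {y // ∃ h : H, h • b = b ∧ h • c = y})
      (Nat.card {y // ∃ h : H, h • b = b ∧ h • d = y}) with hle | hle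
  · exact no_rank_three_aux hcb hdb hsep hcov hq hodd hle
  · refine no_rank_three_aux hdb hcb (fun h hb e => hsep h⁻¹ (by rw [inv_smul_eq_iff, hb])
      (by rw [inv_smul_eq_iff, e])) (fun z hz => ?_) hq hodd hle
    obtain ⟨h, hb, e⟩ := hcov z hz
    exact ⟨h, hb, e.symm⟩

end RankThree

end Cfsg.Agent.Classical.PrimeTwin
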