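import Cfsg.Agent.S0675
import Cfsg.Agent.S0676
import Cfsg.Agent.Lib.Classical.PrimeTwin.Basic

/-!
The setwise stabiliser of two points acting on the remaining points.
-/

set_option autoImplicit false

namespace Cfsg.Agent.Classical.PrimeTwin

open MulAction

variable {G Ω : Type*} [Group G] [MulAction G Ω]

/-- The points different from two given ones. -/
abbrev Others (a b : Ω) := {x : Ω // x ≠ a ∧ x ≠ b}

/-- The setwise stabiliser of two points. -/
def pairStab (G : Type*) {Ω : Type*} [Group G] [MulAction G Ω] (a b : Ω) : Subgroup G where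
  carrier := {g | (g • a = a ∧ g • b = b) ∨ (g • a = b ∧ g • b = a)}
  one_mem' := Or.inl ⟨one_smul _ _, one_smul _ _⟩
  mul_mem' := by
    rintro g h (⟨ga, gb⟩ | ⟨ga, gb⟩) (⟨ha, hb⟩ | ⟨ha, hb⟩) <;>
      simp [mul_smul, ga, gb, ha, hb]
  inv_mem' := by
    rintro g (⟨ga, gb⟩ | ⟨ga, gb⟩)
    · exact Or.inl ⟨by rw [inv_smul_eq_iff, ga], by rw [inv_smul_eq_iff, gb]⟩
    · exact Or.inr ⟨by rw [inv_smul_eq_iff, gb], by rw [inv_smul_eq_iff, ga]⟩

theorem mem_pairStab {a b : Ω} {g : G} :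
    g ∈ pairStab G a b ↔ (g • a = a ∧ g • b = b) ∨ (g • a = b ∧ g • b = a) := Iff.rfl

theorem pairStab_ne {a b : Ω} (g : pairStab G a b) {x : Ω} (hx : x ≠ a ∧ x ≠ b) :
    (g : G) • x ≠ a ∧ (g : G) • x ≠ b := by
  rcases mem_pairStab.1 g.2 with ⟨ga, gb⟩ | ⟨ga, gb⟩
  · exact ⟨fun e => hx.1 (MulAction.injective _ (e.trans ga.symm)),
      fun e => hx.2 (MulAction.injective _ (e.trans gb.symm))⟩
  · exact ⟨fun e => hx.2 (MulAction.injective _ (e.trans gb.symm)),
      fun e => hx.1 (MulAction.injective _ (e.trans ga.symm))⟩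

/-- The permutation induced on the other points. -/
def pairHom (G : Type*) {Ω : Type*} [Group G] [MulAction G Ω] (a b : Ω) :
    pairStab G a b →* Equiv.Perm (Others a b) where
  toFun g :=
    { toFun := fun x => ⟨(g : G) • (x : Ω), pairStab_ne g x.2⟩
      invFun := fun x => ⟨((g⁻¹ : pairStab G a b) : G) • (x : Ω), pairStab_ne g⁻¹ x.2⟩
      left_inv := fun x => Subtype.ext (by simp)
      right_inv := fun x => Subtype.ext (by simp) }
  map_one' := by ext x; simp
  map_mul' g h := by ext x; simp [mul_smul]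

theorem pairHom_apply {a b : Ω} (g : pairStab G a b) (x : Others a b) :
    ((pairHom G a b g x : Others a b) : Ω) = (g : G) • (x : Ω) := rfl

/-- The pointwise stabiliser inside the setwise one. -/
def pairFix (G : Type*) {Ω : Type*} [Group G] [MulAction G Ω] (a b : Ω) :
    Subgroup (pairStab G a b) := (MulAction.stabilizer G a).subgroupOf (pairStab G a b)

theorem mem_pairFix {a b : Ω} (hab : a ≠ b) {g : pairStab G a b} :
    g ∈ pairFix G a b ↔ (g : G) • a = a ∧ (g : G) • b = b := by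
  rw [pairFix, Subgroup.mem_subgroupOf, MulAction.mem_stabilizer_iff]
  refine ⟨fun h => ?_, And.left⟩
  rcases mem_pairStab.1 g.2 with h' | ⟨h1, h2⟩
  · exact h'
  · exact absurd (h.symm.trans h1) hab

variable [FaithfulSMul G Ω]

theorem eq_one_of_pairHom {a b : Ω} {g : pairStab G a b} (h : pairHom G a b g = 1)
    (ha : (g : G) • a = a) (hb : (g : G) • b = b) : g = 1 := by
  refine Subtype.ext (FaithfulSMul.eq_of_smul_eq_smul (α := Ω) fun x => ?_)
  rw [Subgroup.coe_one, one_smul]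
  by_cases hxa : x = a
  · rw [hxa, ha]
  by_cases hxb : x = b
  · rw [hxb, hb]
  exact congrArg Subtype.val (DFunLike.congr_fun h ⟨x, hxa, hxb⟩)

theorem card_map_pairFix [Finite G] {a b : Ω} (hab : a ≠ b) :
    Nat.card ((pairFix G a b).map (pairHom G a b)) =
      Nat.card {g : G // g • a = a ∧ g • b = b} := by
  have hinj : Function.Injective (fun g : pairFix G a b => pairHom G a b g) := by
    intro g g' hgg
    have h1 : pairHom G a b ((g : pairStab G a b) * (g' : pairStab G a b)⁻¹) = 1 := by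
      rw [map_mul, map_inv]
      exact mul_inv_eq_one.2 hgg
    obtain ⟨ha, hb⟩ := (mem_pairFix hab).1 ((pairFix G a b).mul_mem g.2 ((pairFix G a b).inv_mem g'.2))
    exact Subtype.ext (mul_inv_eq_one.1 (eq_one_of_pairHom h1 ha hb))
  refine (Nat.card_eq_of_bijective (fun g : {g : G // g • a = a ∧ g • b = b} =>
    (⟨pairHom G a b ⟨g.1, Or.inl g.2⟩, ⟨g.1, Or.inl g.2⟩, (mem_pairFix hab).2 g.2, rfl⟩ :
      (pairFix G a b).map (pairHom G a b))) ⟨fun g g' e => ?_, ?_⟩).symm
  · exact Subtype.ext (congrArg (fun x : pairStab G a b => (x : G))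
      (congrArg Subtype.val (@hinj ⟨⟨g.1, Or.inl g.2⟩, (mem_pairFix hab).2 g.2⟩
        ⟨⟨g'.1, Or.inl g'.2⟩, (mem_pairFix hab).2 g'.2⟩ (congrArg Subtype.val e))))
  · rintro ⟨_, g, hg, rfl⟩
    exact ⟨⟨g, (mem_pairFix hab).1 hg⟩, rfl⟩

theorem map_pairFix_pretransitive {a b : Ω}
    (h3 : ∀ u v : Others a b, ∃ g : G, (g • a = a ∧ g • b = b) ∧ g • (u : Ω) = v) (hab : a ≠ b) :
    IsPretransitive ((pairFix G a b).map (pairHom G a b)) (Others a b) := by
  refine ⟨fun u v => ?_⟩
  obtain ⟨g, hg, hgu⟩ := h3 u v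
  exact ⟨⟨_, ⟨g, Or.inl hg⟩, (mem_pairFix hab).2 hg, rfl⟩, Subtype.ext hgu⟩

/-- If the pointwise stabiliser of two points is insoluble and transitive on the other points,
prime in number, and no transposition is present, then the setwise stabiliser is triply transitive
on them. -/
theorem pairStab_three [Finite G] [Fintype Ω] [DecidableEq Ω] {a b : Ω} (hab : a ≠ b) {q : ℕ}
    [Fact q.Prime] (hq2 : q ≠ 2) (hX : Fintype.card (Others a b) = q)
    [IsPretransitive ((pairFix G a b).map (pairHom G a b)) (Others a b)]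
    (hins : ¬ Group.IsSolvable ((pairFix G a b).map (pairHom G a b)))
    (hswap : ∃ t : G, t • a = b ∧ t • b = a)
    (hno : ∀ g : G, g • a = b → g • b = a → ∃ x, x ≠ a ∧ x ≠ b ∧ g • x ≠ x) :
    IsMultiplyPretransitive (pairHom G a b).range (Others a b) 3 := by
  classical
  have hle : (pairFix G a b).map (pairHom G a b) ≤ (pairHom G a b).range := Subgroup.map_le_range _ _
  have : IsPretransitive (pairHom G a b).range (Others a b) := ⟨fun u v => by
    obtain ⟨⟨g, hg⟩, hgu⟩ := MulAction.exists_smul_eq ((pairFix G a b).map (pairHom G a b)) u v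
    exact ⟨⟨g, hle hg⟩, hgu⟩⟩
  have hins' : ¬ Group.IsSolvable (pairHom G a b).range := fun h =>
    hins (solvable_of_solvable_injective (f := Subgroup.inclusion hle) (Subgroup.inclusion_injective _))
  let A := ((pairFix G a b).map (pairHom G a b)).subgroupOf (pairHom G a b).range
  have hA : A.Normal := by
    refine ⟨fun x hx y => ?_⟩
    obtain ⟨h, hh, he⟩ := Subgroup.mem_subgroupOf.1 hx
    obtain ⟨g, hg⟩ := y.2
    refine Subgroup.mem_subgroupOf.2 ⟨g * h * g⁻¹, (mem_pairFix hab).2 ?_, by simp [map_mul, he, hg]⟩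
    obtain ⟨ha, hb⟩ := (mem_pairFix hab).1 hh
    rcases mem_pairStab.1 g.2 with ⟨ga, gb⟩ | ⟨ga, gb⟩ <;>
      have h1 : ((g⁻¹ : pairStab G a b) : G) = (g : G)⁻¹ := rfl
    · constructor <;> rw [Subgroup.coe_mul, Subgroup.coe_mul, h1, mul_smul, mul_smul]
      · rw [show (g : G)⁻¹ • a = a by rw [inv_smul_eq_iff, ga], ha, ga]
      · rw [show (g : G)⁻¹ • b = b by rw [inv_smul_eq_iff, gb], hb, gb]
    · constructor <;> rw [Subgroup.coe_mul, Subgroup.coe_mul, h1, mul_smul, mul_smul]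
      · rw [show (g : G)⁻¹ • a = b by rw [inv_smul_eq_iff, gb], hb, gb]
      · rw [show (g : G)⁻¹ • b = a by rw [inv_smul_eq_iff, ga], ha, ga]
  have hsq : ∀ x : (pairHom G a b).range, x ^ 2 ∈ A := by
    rintro ⟨_, g, rfl⟩
    refine Subgroup.mem_subgroupOf.2 ⟨g ^ 2, (mem_pairFix hab).2 ?_, by simp⟩
    rcases mem_pairStab.1 g.2 with ⟨ga, gb⟩ | ⟨ga, gb⟩ <;>
      simp [sq, mul_smul, ga, gb]
  have hodd : ∀ x : (pairHom G a b).range, Odd (orderOf x) → x ∈ A := by
    rintro x ⟨k, hk⟩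
    have : x = ((x ^ 2) ^ (k + 1)) := by
      rw [← pow_mul, show 2 * (k + 1) = orderOf x + 1 by omega, pow_succ, pow_orderOf_eq_one, one_mul]
    rw [this]
    exact A.pow_mem (hsq x) _
  have hAtop : A ≠ ⊤ := by
    intro h
    obtain ⟨t, ta, tb⟩ := hswap
    have ht : pairHom G a b ⟨t, Or.inr ⟨ta, tb⟩⟩ ∈ (pairFix G a b).map (pairHom G a b) :=
      Subgroup.subgroupOf_eq_top.1 h ⟨⟨t, Or.inr ⟨ta, tb⟩⟩, rfl⟩
    obtain ⟨g, hg, he⟩ := ht
    obtain ⟨ga, gb⟩ := (mem_pairFix hab).1 hg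
    obtain ⟨x, hxa, hxb, hx⟩ := hno ((g : G)⁻¹ * t)
      (by rw [mul_smul, ta, inv_smul_eq_iff, gb]) (by rw [mul_smul, tb, inv_smul_eq_iff, ga])
    refine hx ?_
    have := congrArg Subtype.val (DFunLike.congr_fun he ⟨x, hxa, hxb⟩)
    rw [pairHom_apply, pairHom_apply] at this
    rw [mul_smul, inv_smul_eq_iff]
    exact this.symm
  let P : Sylow q (pairHom G a b).range := default
  have hPA : (P : Subgroup (pairHom G a b).range) ≤ A := by
    intro x hx
    obtain ⟨i, hi⟩ := P.isPGroup' ⟨x, hx⟩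
    have h1 : orderOf x ∣ q ^ i := orderOf_dvd_of_pow_eq_one (congrArg Subtype.val hi)
    obtain ⟨j, -, hj⟩ := (Nat.dvd_prime_pow Fact.out).1 h1
    exact hodd x (hj ▸ ((Fact.out : q.Prime).odd_of_ne_two hq2).pow)
  have heven : Even (Nat.card (Subgroup.normalizer ((P : Subgroup (pairHom G a b).range) : Set (pairHom G a b).range))) := by
    by_contra hne
    rw [Nat.not_even_iff_odd] at hne
    refine hAtop (top_le_iff.1 ?_)
    rw [← Sylow.normalizer_sup_eq_top' P hPA]
    refine sup_le (fun x hx => hodd x ?_) le_rfl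
    exact hne.of_dvd_nat (by
      have := orderOf_dvd_natCard (⟨x, hx⟩ : Subgroup.normalizer ((P : Subgroup (pairHom G a b).range) : Set (pairHom G a b).range))
      rwa [← Subgroup.orderOf_coe] at this)
  exact Cfsg.Agent.S0676.result hX _ hins' P heven

end Cfsg.Agent.Classical.PrimeTwin
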