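import Mathlib

/-!
A multiply transitive permutation group with a non-trivial element of small support contains the
alternating group.
-/

set_option autoImplicit false

namespace Cfsg.Agent.Classical.PrimeTwin

open Equiv MulAction

variable {α : Type*} [Fintype α] [DecidableEq α]

/-- The commutator of two permutations whose supports meet in one point is a three-cycle. -/
theorem isThreeCycle_of_meet_once {g h : Perm α} {a : α} (hg : g a ≠ a) (hh : h a ≠ a)
    (hmeet : ∀ x, g x ≠ x → h x ≠ x → x = a) :
    (g * h * g⁻¹ * h⁻¹).IsThreeCycle := by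
  have fixg : ∀ x, h x ≠ x → x ≠ a → g x = x := fun x h1 h2 => by
    by_contra h3
    exact h2 (hmeet x h3 h1)
  have fixh : ∀ x, g x ≠ x → x ≠ a → h x = x := fun x h1 h2 => by
    by_contra h3
    exact h2 (hmeet x h1 h3)
  have hgb : g (g a) ≠ g a := fun e => hg (g.injective e)
  have hhc : h (h a) ≠ h a := fun e => hh (h.injective e)
  have hgc : g (h a) = h a := fixg _ hhc hh
  have hhb : h (g a) = g a := fixh _ hgb hg
  have hbc : g a ≠ h a := fun e => hgb (by rw [e, hgc])
  have key : g * h * g⁻¹ * h⁻¹ = swap a (h a) * swap a (g a) := by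
    ext x
    simp only [Perm.mul_apply]
    obtain ⟨y, hy⟩ : ∃ y, h y = x := h.surjective x
    have hy' : h⁻¹ x = y := by rw [Perm.inv_eq_iff_eq, hy]
    obtain ⟨z, hz⟩ : ∃ z, g z = y := g.surjective y
    have hz' : g⁻¹ y = z := by rw [Perm.inv_eq_iff_eq, hz]
    rw [hy', hz']
    by_cases hxa : x = a
    · subst hxa
      have hyx : y ≠ x := fun e => hh (e ▸ hy)
      have hgy : g y = y := fixg y (by rw [hy]; exact fun e => hyx e.symm) hyx
      have hzy : z = y := g.injective (hz.trans hgy.symm)
      rw [hzy, hy, swap_apply_left, swap_apply_of_ne_of_ne hg hbc]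
    by_cases hxb : x = g a
    · subst hxb
      have hya : y = g a := h.injective (hy.trans hhb.symm)
      have hza : z = a := g.injective (hz.trans hya)
      rw [hza, swap_apply_right, swap_apply_left, hgc]
    by_cases hxc : x = h a
    · subst hxc
      have hya : y = a := h.injective hy
      subst hya
      have hzy : z ≠ y := fun e => hg (e ▸ hz)
      have hhz : h z = z := fixh z (by rw [hz]; exact fun e => hzy e.symm) hzy
      rw [hhz, hz, swap_apply_of_ne_of_ne hh hxb, swap_apply_right]
    rw [swap_apply_of_ne_of_ne hxa hxb, swap_apply_of_ne_of_ne hxa hxc]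
    by_cases hx : h x = x
    · have hyx : y = x := h.injective (hy.trans hx.symm)
      subst hyx
      have hza : z ≠ a := fun e => hxb (e ▸ hz.symm)
      by_cases hgz : g z = z
      · have hzy : z = y := hgz.symm.trans hz
        rw [hzy, hx]
        exact hzy ▸ hgz
      · rw [fixh z hgz hza, hz]
    · have hy1 : h y ≠ y := fun e => by
        have hyx : y = x := e.symm.trans hy
        exact hx (hyx ▸ e)
      have hya : y ≠ a := fun e => hxc (e ▸ hy.symm)
      have hzy : z = y := g.injective (hz.trans (fixg y hy1 hya).symm)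
      rw [hzy, hy, fixg x hx hxa]
  rw [key]
  exact Perm.isThreeCycle_swap_mul_swap_same hh.symm hg.symm hbc.symm

/-- A `k`-fold transitive group with a non-trivial element moving at most `k` points, and at most
half of all points, contains the alternating group. -/
theorem alternatingGroup_le_of_small_support {G : Subgroup (Perm α)} {k : ℕ}
    (h2 : IsMultiplyPretransitive G α 2)
    (hk : IsMultiplyPretransitive G α k) (hkα : k ≤ Fintype.card α) {g : Perm α} (hg : g ∈ G)
    (hg1 : g ≠ 1) (hs : g.support.card ≤ k) (hn : 2 * g.support.card ≤ Fintype.card α + 1) :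
    alternatingGroup α ≤ G := by
  classical
  have := isPreprimitive_of_is_two_pretransitive h2
  obtain ⟨a, ha⟩ : ∃ a, g a ≠ a := by
    by_contra h
    push Not at h
    exact hg1 (Equiv.ext h)
  have haS : a ∈ g.support := Perm.mem_support.2 ha
  have : IsMultiplyPretransitive G α g.support.card :=
    isMultiplyPretransitive_of_le hs (by rw [Nat.card_eq_fintype_card]; exact hkα)
  have hout : g.support.card - 1 ≤ (Finset.univ \ g.support).card := by
    rw [Finset.card_univ_sdiff]
    omega
  obtain ⟨T, hTsub, hT⟩ := Finset.exists_subset_card_eq hout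
  have haT : a ∉ T := fun h => (Finset.mem_sdiff.1 (hTsub h)).2 haS
  have hcard : (g.support.erase a).card = T.card := by rw [Finset.card_erase_of_mem haS, hT]
  let e := Finset.equivOfCardEq hcard
  let tgt : g.support → α := fun x =>
    if hx : (x : α) = a then a else (e ⟨x, Finset.mem_erase.2 ⟨hx, x.2⟩⟩ : α)
  have htgt : Function.Injective tgt := by
    intro x y hxy
    simp only [tgt] at hxy
    split_ifs at hxy with hx hy hy
    · exact Subtype.ext (hx.trans hy.symm)
    · exact absurd (hxy ▸ (e _).2) haT
    · exact absurd (hxy.symm ▸ (e _).2) haT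
    · exact Subtype.ext (congrArg Subtype.val (e.injective (Subtype.ext hxy)) :)
  let ι : Fin g.support.card ≃ g.support := g.support.equivFin.symm
  obtain ⟨⟨k', hk'G⟩, hk'⟩ := MulAction.exists_smul_eq G
    (⟨fun i => (ι i : α), Subtype.val_injective.comp ι.injective⟩ : Fin g.support.card ↪ α)
    ⟨fun i => tgt (ι i), htgt.comp ι.injective⟩
  have hmap : ∀ x : g.support, k' x = tgt x := fun x => by
    obtain ⟨i, rfl⟩ := ι.surjective x
    exact DFunLike.congr_fun hk' i
  have hka : k' a = a := by rw [hmap ⟨a, haS⟩]; simp [tgt]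
  have key : ∀ x, g x ≠ x → (k' * g * k'⁻¹) x ≠ x → x = a := by
    intro x hx hx'
    have hw : k'⁻¹ x ∈ g.support := Perm.mem_support.2 fun e' => hx' (by
      rw [Perm.mul_apply, Perm.mul_apply, e', ← Perm.mul_apply, mul_inv_cancel, Perm.one_apply])
    have h1 : x = tgt ⟨k'⁻¹ x, hw⟩ := by
      rw [← hmap ⟨k'⁻¹ x, hw⟩, ← Perm.mul_apply, mul_inv_cancel, Perm.one_apply]
    simp only [tgt] at h1
    split_ifs at h1 with hh
    · exact h1
    · exact absurd (Perm.mem_support.2 hx) (h1.symm ▸ (Finset.mem_sdiff.1 (hTsub (e _).2)).2)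
  have hha : (k' * g * k'⁻¹) a ≠ a := by
    intro h
    apply ha
    have hia : k'⁻¹ a = a := by rw [Perm.inv_eq_iff_eq, hka]
    rw [Perm.mul_apply, Perm.mul_apply, hia] at h
    exact k'.injective (h.trans hka.symm)
  have hh : k' * g * k'⁻¹ ∈ G := G.mul_mem (G.mul_mem hk'G hg) (G.inv_mem hk'G)
  exact Perm.alternatingGroup_le_of_isPreprimitive_of_isThreeCycle_mem ‹_›
    (isThreeCycle_of_meet_once ha hha key)
    (G.mul_mem (G.mul_mem (G.mul_mem hg hh) (G.inv_mem hg)) (G.inv_mem hh))

end Cfsg.Agent.Classical.PrimeTwin
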