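import Cfsg.Agent.S3612
import Cfsg.Agent.Lib.Classical.PrimeTwin.Pair
import Cfsg.Agent.Lib.Classical.PrimeTwin.SmallSupport

/-!
Insoluble groups of prime degree `p = q + 2` whose Sylow normaliser has half the affine order are
five-fold transitive.
-/

set_option autoImplicit false

namespace Cfsg.Agent.Classical.PrimeTwin

open MulAction Cfsg.Agent.Grp.HalfNormalizer

variable {G Ω : Type*} [Group G] [MulAction G Ω]

theorem range_multiply {k : ℕ} (h : IsMultiplyPretransitive G Ω k) :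
    IsMultiplyPretransitive (toPermHom G Ω).range Ω k := ⟨fun x y => by
  obtain ⟨g, hg⟩ := h.exists_smul_eq x y
  exact ⟨⟨toPermHom G Ω g, g, rfl⟩, Function.Embedding.ext fun i => DFunLike.congr_fun hg i⟩⟩

theorem of_range_multiply {k : ℕ} (h : IsMultiplyPretransitive (toPermHom G Ω).range Ω k) :
    IsMultiplyPretransitive G Ω k := ⟨fun x y => by
  obtain ⟨⟨_, g, rfl⟩, hg⟩ := h.exists_smul_eq x y
  exact ⟨g, Function.Embedding.ext fun i => DFunLike.congr_fun hg i⟩⟩

/-- The data: prime degree `q + 2` with half Sylow normaliser. -/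
structure Twin (G Ω : Type*) [Group G] [MulAction G Ω] (p q : ℕ) : Prop where
  hp : p.Prime
  hq : q.Prime
  hq5 : 5 < q
  hpq : p = q + 2
  card : Nat.card Ω = p
  trans : IsPretransitive G Ω
  ins : ¬ Group.IsSolvable G
  half : ∃ P : Sylow p G,
    2 * Nat.card ↥(Subgroup.normalizer ((P : Subgroup G) : Set G)) = p * (p - 1)

variable [Finite G] [FaithfulSMul G Ω] [Fintype Ω] [DecidableEq Ω] {p q : ℕ}

theorem Twin.three (h : Twin G Ω p q) : IsMultiplyPretransitive G Ω 3 := by
  obtain ⟨P, hP⟩ := h.half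
  have hq5 := h.hq5
  have hpq := h.hpq
  have : Fact p.Prime := ⟨h.hp⟩
  have hyp : Hyp G Ω p := Hyp.of_half h.card h.trans h.ins P hP.ge
  refine hyp.dichotomy.resolve_right fun h4 => ?_
  have hcardΩ : Fintype.card Ω = p := by rw [← Nat.card_eq_fintype_card, h.card]
  obtain ⟨a, b, hab⟩ := Fintype.exists_pair_of_one_lt_card (hcardΩ ▸ h.hp.one_lt)
  obtain ⟨c, d, hca, hcb, hda, hdb, hsep, hcov⟩ := h4 a b hab
  have : IsPreprimitive ↥(stabilizer G a) ↥(SubMulAction.ofStabilizer G a) :=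
    Cfsg.Agent.S3612.result p h.hp h.card h.trans h.ins P hP (by omega) a
  classical
  have : Fintype ↥(SubMulAction.ofStabilizer G a) := Fintype.ofFinite _
  have hcard : Fintype.card ↥(SubMulAction.ofStabilizer G a) = p - 1 := by
    have h1 := SubMulAction.nat_card_ofStabilizer_add_one_eq G a
    rw [Nat.card_eq_fintype_card, Nat.card_eq_fintype_card, hcardΩ] at h1
    omega
  refine no_rank_three_of_prime (H := ↥(stabilizer G a))
    (b := (⟨b, hab.symm⟩ : ↥(SubMulAction.ofStabilizer G a))) (c := ⟨c, hca⟩) (d := ⟨d, hda⟩)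
    (fun e => hcb (congrArg Subtype.val e)) (fun e => hdb (congrArg Subtype.val e))
    (fun g hb e => hsep g g.2 (congrArg Subtype.val hb) (congrArg Subtype.val e)) ?_
    (by rw [hcard, hpq, show q + 2 - 1 - 1 = q by omega]; exact h.hq)
    (by rw [hcard, hpq, show q + 2 - 1 - 1 = q by omega]; exact h.hq.odd_of_ne_two (by omega))
  rintro ⟨z, hza⟩ hzb
  obtain ⟨g, ga, gb, e | e⟩ := hcov z hza (fun e => hzb (Subtype.ext e))
  · exact ⟨⟨g, ga⟩, Subtype.ext gb, Or.inl (Subtype.ext e)⟩
  · exact ⟨⟨g, ga⟩, Subtype.ext gb, Or.inr (Subtype.ext e)⟩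

omit [DecidableEq Ω] in
theorem Twin.card_others (h : Twin G Ω p q) {a b : Ω} (hab : a ≠ b) [Fintype (Others a b)] :
    Fintype.card (Others a b) = q := by
  classical
  rw [Fintype.card_subtype, show (Finset.univ.filter fun x : Ω => x ≠ a ∧ x ≠ b) = ({a, b} : Finset Ω)ᶜ by
    ext x; simp, Finset.card_compl, Finset.card_pair hab, ← Nat.card_eq_fintype_card, h.card, h.hpq]
  omega

theorem emb_three {a b c : Ω} (hab : a ≠ b) (hac : a ≠ c) (hbc : b ≠ c) :
    Function.Injective ![a, b, c] := by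
  intro i j hij
  fin_cases i <;> fin_cases j <;> simp_all [eq_comm]

omit [DecidableEq Ω] in
theorem Twin.fix_pretransitive (h : Twin G Ω p q) {a b : Ω} (hab : a ≠ b) :
    IsPretransitive ((pairFix G a b).map (pairHom G a b)) (Others a b) := by
  classical
  refine map_pairFix_pretransitive (fun u v => ?_) hab
  obtain ⟨g, hg, hgu⟩ := fix_of_succ (k := 2) h.three ⟨![a, b], by
    intro i j hij
    fin_cases i <;> fin_cases j <;> simp_all [eq_comm]⟩ (u := (u : Ω)) (v := v)
    (fun i e => by fin_cases i <;> [exact u.2.1 e.symm; exact u.2.2 e.symm])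
    (fun i e => by fin_cases i <;> [exact v.2.1 e.symm; exact v.2.2 e.symm])
  exact ⟨g, ⟨hg 0, hg 1⟩, hgu⟩

theorem Twin.card_eq (h : Twin G Ω p q) {a b : Ω} (hab : a ≠ b) :
    Nat.card G = p * (p - 1) * Nat.card {g : G // g • a = a ∧ g • b = b} := by
  have h2 : IsMultiplyPretransitive G Ω 2 := by
    have := h.three
    exact isMultiplyPretransitive_of_le (by omega : 2 ≤ 3) (by rw [h.card]; have := h.hq5; have := h.hpq; omega)
  let e : Fin 2 ↪ Ω := ⟨![a, b], by intro i j hij; fin_cases i <;> fin_cases j <;> simp_all [eq_comm]⟩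
  have hidx := index_stabilizer_of_transitive G e
  have hcount : Nat.card (Fin 2 ↪ Ω) = p * (p - 1) := by
    rw [Nat.card_eq_fintype_card, Fintype.card_embedding_eq, ← Nat.card_eq_fintype_card (α := Ω),
      h.card, Fintype.card_fin]
    simp [Nat.descFactorial, mul_comm]
  rw [← (stabilizer G e).index_mul_card, hidx, hcount]
  congr 1
  refine Nat.card_congr (Equiv.subtypeEquivRight fun g => ?_)
  rw [mem_stabilizer_iff, Function.Embedding.ext_iff, Fin.forall_fin_two]
  rfl

/-- The congruence forced by Sylow's theorem. -/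
theorem Twin.congr (h : Twin G Ω p q) {a b : Ω} (hab : a ≠ b) :
    p ∣ 2 * Nat.card {g : G // g • a = a ∧ g • b = b} - 1 := by
  have : Fact p.Prime := ⟨h.hp⟩
  obtain ⟨P, hP⟩ := h.half
  have h1 := card_sylow_modEq_one p G
  rw [Sylow.card_eq_index_normalizer P] at h1
  have h2 := (Subgroup.normalizer ((P : Subgroup G) : Set G)).index_mul_card
  rw [h.card_eq hab] at h2
  have hpp : 0 < p * (p - 1) := Nat.mul_pos h.hp.pos (by have := h.hp.two_le; omega)
  have h3 : (Subgroup.normalizer ((P : Subgroup G) : Set G)).index =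
      2 * Nat.card {g : G // g • a = a ∧ g • b = b} := by
    refine Nat.eq_of_mul_eq_mul_right hpp ?_
    calc _ = 2 * ((Subgroup.normalizer ((P : Subgroup G) : Set G)).index *
          Nat.card ↥(Subgroup.normalizer ((P : Subgroup G) : Set G))) := by rw [← hP]; ring
      _ = _ := by rw [h2]; ring
  have hpos : 0 < Nat.card {g : G // g • a = a ∧ g • b = b} := by
    have : Nonempty {g : G // g • a = a ∧ g • b = b} := ⟨⟨1, by simp⟩⟩
    exact Nat.card_pos
  exact (Nat.modEq_iff_dvd' (by omega)).1 (h3 ▸ h1).symm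

theorem Twin.fix_insoluble (h : Twin G Ω p q) {a b : Ω} (hab : a ≠ b) :
    ¬ Group.IsSolvable ((pairFix G a b).map (pairHom G a b)) := by
  intro hsol
  have : Fact q.Prime := ⟨h.hq⟩
  have := h.fix_pretransitive hab
  have hX := h.card_others hab
  have hd := card_dvd_of_solvable hX _ hsol
  have hqd := Cfsg.Agent.Block.primeDeg_dvd_card hX ((pairFix G a b).map (pairHom G a b))
  rw [card_map_pairFix hab] at hd hqd
  obtain ⟨e, he⟩ := hqd
  rw [he] at hd
  obtain ⟨f, hf⟩ := Nat.dvd_of_mul_dvd_mul_left h.hq.pos hd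
  have hc := h.congr hab
  rw [he] at hc
  have hq5 := h.hq5
  have hpq := h.hpq
  have he0 : 0 < e := by rcases Nat.eq_zero_or_pos e with rfl | h' <;> [simp at hf; exact h']; omega
  have h4 : p ∣ 4 * e + 1 := by
    have h5 : p ∣ 2 * e * p := dvd_mul_left _ _
    have h6 : 2 * e * p = (2 * (q * e) - 1) + (4 * e + 1) := by
      have : 0 < q * e := Nat.mul_pos h.hq.pos he0
      rw [hpq, mul_add, show 2 * e * q = 2 * (q * e) by ring]
      omega
    exact (Nat.dvd_add_right hc).1 (h6 ▸ h5)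
  obtain ⟨j, hj⟩ := h4
  have hp3 : p = e * f + 3 := by omega
  have hj0 : 0 < j := by rcases Nat.eq_zero_or_pos j with rfl | h' <;> [simp at hj; exact h']
  have hf0 : 0 < f := by rcases Nat.eq_zero_or_pos f with rfl | h' <;> [simp at hf; exact h']; omega
  have hj' : 4 * e + 1 = e * (f * j) + 3 * j := by rw [hj, hp3]; ring
  have hfj : f * j < 4 := by
    by_contra hcon
    have : e * 4 ≤ e * (f * j) := Nat.mul_le_mul_left e (by omega)
    omega
  have hj4 : j ≤ 3 := (Nat.le_mul_of_pos_left j hf0).trans (by omega)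
  have hf4 : f ≤ 3 := (Nat.le_mul_of_pos_right f hj0).trans (by omega)
  have hpP := h.hp
  have hqP := h.hq
  interval_cases j <;> interval_cases f <;> try omega
  all_goals
    rcases (show p = 9 ∨ q = 9 by omega) with h8 | h8
    · rw [h8] at hpP
      norm_num at hpP
    · rw [h8] at hqP
      norm_num at hqP

omit [Fintype Ω] in
theorem emb_two {a b : Ω} (hab : a ≠ b) : Function.Injective ![a, b] := by
  intro i j hij
  fin_cases i <;> fin_cases j <;> simp_all [eq_comm]

theorem Twin.four (h : Twin G Ω p q) : IsMultiplyPretransitive G Ω 4 := by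
  classical
  have hq5 := h.hq5
  have hpq := h.hpq
  obtain ⟨s⟩ : Nonempty (Fin 3 ↪ Ω) := by
    rw [Function.Embedding.nonempty_iff_card_le, Fintype.card_fin, ← Nat.card_eq_fintype_card, h.card]
    omega
  refine succ_of_fix h.three s fun u v hu hv => ?_
  have hab : s 0 ≠ s 1 := s.injective.ne (by decide)
  have : Fact q.Prime := ⟨h.hq⟩
  have := h.fix_pretransitive hab
  have hX := h.card_others hab
  have h2 := (Cfsg.Agent.S0675.result (hX ▸ h.hq) _).resolve_left (h.fix_insoluble hab)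
  rw [is_two_pretransitive_iff] at h2
  let c : Others (s 0) (s 1) := ⟨s 2, s.injective.ne (by decide), s.injective.ne (by decide)⟩
  let u' : Others (s 0) (s 1) := ⟨u, (hu 0).symm, (hu 1).symm⟩
  let v' : Others (s 0) (s 1) := ⟨v, (hv 0).symm, (hv 1).symm⟩
  obtain ⟨⟨_, g, hg, rfl⟩, hc, huv⟩ := h2 (a := c) (b := u') (c := c) (d := v')
    (fun e => hu 2 (congrArg Subtype.val e)) (fun e => hv 2 (congrArg Subtype.val e))
  obtain ⟨ga, gb⟩ := (mem_pairFix hab).1 hg
  refine ⟨g, fun i => ?_, congrArg Subtype.val huv⟩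
  fin_cases i
  · exact ga
  · exact gb
  · exact congrArg Subtype.val hc

/-- A transposition would make the group symmetric. -/
theorem five_of_swap (h2 : IsMultiplyPretransitive G Ω 2) {g : G} {a b : Ω} (hab : a ≠ b)
    (ga : g • a = b) (gb : g • b = a) (hg : ∀ x, x ≠ a → x ≠ b → g • x = x) :
    IsMultiplyPretransitive G Ω 5 := by
  have := range_multiply h2
  have := isPreprimitive_of_is_two_pretransitive this
  have htop : (toPermHom G Ω).range = ⊤ :=
    Equiv.Perm.subgroup_eq_top_of_isPreprimitive_of_isSwap_mem this (toPermHom G Ω g)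
      ⟨a, b, hab, Equiv.ext fun x => by
        show g • x = _
        by_cases hxa : x = a
        · rw [hxa, ga, Equiv.swap_apply_left]
        by_cases hxb : x = b
        · rw [hxb, gb, Equiv.swap_apply_right]
        rw [hg x hxa hxb, Equiv.swap_apply_of_ne_of_ne hxa hxb]⟩ ⟨g, rfl⟩
  refine ⟨fun x y => ?_⟩
  obtain ⟨σ, hσ⟩ := (Equiv.Perm.isMultiplyPretransitive Ω 5).exists_smul_eq x y
  obtain ⟨k, rfl⟩ : σ ∈ (toPermHom G Ω).range := htop ▸ Subgroup.mem_top σ
  exact ⟨k, Function.Embedding.ext fun i => DFunLike.congr_fun hσ i⟩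

theorem Twin.five (h : Twin G Ω p q) : IsMultiplyPretransitive G Ω 5 := by
  classical
  have hq5 := h.hq5
  have hpq := h.hpq
  have : Fact q.Prime := ⟨h.hq⟩
  have h4 := h.four
  have hle : ∀ k, k ≤ 4 → IsMultiplyPretransitive G Ω k := fun k hk =>
    isMultiplyPretransitive_of_le hk (by rw [h.card]; omega)
  obtain ⟨s⟩ : Nonempty (Fin 4 ↪ Ω) := by
    rw [Function.Embedding.nonempty_iff_card_le, Fintype.card_fin, ← Nat.card_eq_fintype_card, h.card]
    omega
  have hab : s 0 ≠ s 1 := s.injective.ne (by decide)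
  by_cases hswap : ∃ g : G, g • s 0 = s 1 ∧ g • s 1 = s 0 ∧
      ∀ x, x ≠ s 0 → x ≠ s 1 → g • x = x
  · obtain ⟨g, ga, gb, hg⟩ := hswap
    exact five_of_swap (hle 2 (by norm_num)) hab ga gb hg
  push Not at hswap
  have := h.fix_pretransitive hab
  have h3 := pairStab_three hab (by omega) (h.card_others hab) (h.fix_insoluble hab)
    (by
      obtain ⟨g, hg⟩ := (hle 2 (by norm_num)).exists_smul_eq
        ⟨![s 0, s 1], emb_two hab⟩ ⟨![s 1, s 0], emb_two hab.symm⟩
      exact ⟨g, DFunLike.congr_fun hg 0, DFunLike.congr_fun hg 1⟩)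
    (fun g ga gb => hswap g ga gb)
  refine succ_of_fix h4 s ?_
  -- the two kinds of elements
  let S : G → Prop := fun g => (∀ i, g • s i = s i)
  let T : G → Prop := fun g => g • s 0 = s 1 ∧ g • s 1 = s 0 ∧ g • s 2 = s 2 ∧ g • s 3 = s 3
  have hB : ∀ u v, (∀ i, s i ≠ u) → (∀ i, s i ≠ v) → ∃ g : G, (S g ∨ T g) ∧ g • u = v := by
    intro u v hu hv
    let c : Others (s 0) (s 1) := ⟨s 2, s.injective.ne (by decide), s.injective.ne (by decide)⟩
    let d : Others (s 0) (s 1) := ⟨s 3, s.injective.ne (by decide), s.injective.ne (by decide)⟩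
    let u' : Others (s 0) (s 1) := ⟨u, (hu 0).symm, (hu 1).symm⟩
    let v' : Others (s 0) (s 1) := ⟨v, (hv 0).symm, (hv 1).symm⟩
    have hcd : c ≠ d := fun e => s.injective.ne (by decide : (2 : Fin 4) ≠ 3) (congrArg Subtype.val e)
    obtain ⟨⟨_, g, rfl⟩, hg⟩ := h3.exists_smul_eq
      ⟨![c, d, u'], emb_three hcd (fun e => hu 2 (congrArg Subtype.val e))
        (fun e => hu 3 (congrArg Subtype.val e))⟩
      ⟨![c, d, v'], emb_three hcd (fun e => hv 2 (congrArg Subtype.val e))
        (fun e => hv 3 (congrArg Subtype.val e))⟩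
    have e2 : (g : G) • s 2 = s 2 := congrArg Subtype.val (DFunLike.congr_fun hg 0)
    have e3 : (g : G) • s 3 = s 3 := congrArg Subtype.val (DFunLike.congr_fun hg 1)
    refine ⟨g, ?_, congrArg Subtype.val (DFunLike.congr_fun hg 2)⟩
    rcases mem_pairStab.1 g.2 with ⟨ga, gb⟩ | ⟨ga, gb⟩
    · exact Or.inl fun i => by fin_cases i <;> [exact ga; exact gb; exact e2; exact e3]
    · exact Or.inr ⟨ga, gb, e2, e3⟩
  have hTS : ∀ g r, T g → T r → S (g * r) := by
    rintro g r ⟨g0, g1, g2, g3⟩ ⟨r0, r1, r2, r3⟩ i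
    fin_cases i <;> simp [mul_smul, g0, g1, g2, g3, r0, r1, r2, r3]
  have hTinv : ∀ g, T g → T g⁻¹ := by
    rintro g ⟨g0, g1, g2, g3⟩
    exact ⟨by rw [inv_smul_eq_iff, g1], by rw [inv_smul_eq_iff, g0], by rw [inv_smul_eq_iff, g2],
      by rw [inv_smul_eq_iff, g3]⟩
  intro u v hu hv
  by_cases hr : ∃ r, T r ∧ r • u = u
  · obtain ⟨r, hr, hru⟩ := hr
    obtain ⟨g, hg | hg, hgu⟩ := hB u v hu hv
    · exact ⟨g, hg, hgu⟩
    · exact ⟨g * r, hTS g r hg hr, by rw [mul_smul, hru, hgu]⟩
  push Not at hr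
  by_contra hcon
  push Not at hcon
  have hY : ∀ g, S g ∨ T g → ∀ y, (∀ i, s i ≠ y) → ∀ i, s i ≠ g • y := by
    rintro g (hg | ⟨g0, g1, g2, g3⟩) y hy i e
    · exact hy i (MulAction.injective g ((hg i).trans e))
    · fin_cases i
      · exact hy 1 (MulAction.injective g (g1.trans e))
      · exact hy 0 (MulAction.injective g (g0.trans e))
      · exact hy 2 (MulAction.injective g (g2.trans e))
      · exact hy 3 (MulAction.injective g (g3.trans e))
  obtain ⟨t, ht, htu⟩ : ∃ t, T t ∧ t • u = v := by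
    obtain ⟨g, hg | hg, hgu⟩ := hB u v hu hv
    · exact absurd hgu (hcon g hg)
    · exact ⟨g, hg, hgu⟩
  let Y : Finset Ω := (Finset.univ.map s)ᶜ
  let O : Finset Ω := Finset.univ.filter fun y => ∃ g, S g ∧ g • u = y
  let O' : Finset Ω := Finset.univ.filter fun y => ∃ g, T g ∧ g • u = y
  have hdisj : Disjoint O O' := by
    rw [Finset.disjoint_left]
    intro y hy hy'
    obtain ⟨g, hg, rfl⟩ := (Finset.mem_filter.1 hy).2
    obtain ⟨g', hg', hgg⟩ := (Finset.mem_filter.1 hy').2
    refine hr (g⁻¹ * g') ?_ (by rw [mul_smul, hgg, inv_smul_smul])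
    obtain ⟨g0, g1, g2, g3⟩ := hg'
    exact ⟨by rw [mul_smul, g0, inv_smul_eq_iff, hg], by rw [mul_smul, g1, inv_smul_eq_iff, hg],
      by rw [mul_smul, g2, inv_smul_eq_iff, hg], by rw [mul_smul, g3, inv_smul_eq_iff, hg]⟩
  have hcard : O.card = O'.card := by
    refine Finset.card_bij (fun y _ => t • y) (fun y hy => ?_)
      (fun y _ y' _ e => MulAction.injective t e) fun y hy => ⟨t⁻¹ • y, ?_, smul_inv_smul t y⟩
    · obtain ⟨g, hg, rfl⟩ := (Finset.mem_filter.1 hy).2
      obtain ⟨t0, t1, t2, t3⟩ := ht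
      exact Finset.mem_filter.2 ⟨Finset.mem_univ _, t * g,
        ⟨by rw [mul_smul, hg, t0], by rw [mul_smul, hg, t1], by rw [mul_smul, hg, t2],
          by rw [mul_smul, hg, t3]⟩, mul_smul _ _ _⟩
    · obtain ⟨g, hg, rfl⟩ := (Finset.mem_filter.1 hy).2
      exact Finset.mem_filter.2 ⟨Finset.mem_univ _, t⁻¹ * g, hTS _ _ (hTinv t ht) hg, mul_smul _ _ _⟩
  have hunion : O ∪ O' = Y := by
    ext y
    simp only [Y, Finset.mem_compl, Finset.mem_map, Finset.mem_univ, true_and, not_exists,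
      Finset.mem_union, O, O', Finset.mem_filter]
    refine ⟨?_, fun hy => ?_⟩
    · rintro (⟨g, hg, rfl⟩ | ⟨g, hg, rfl⟩)
      · exact hY g (Or.inl hg) u hu
      · exact hY g (Or.inr hg) u hu
    · obtain ⟨g, hg | hg, hgu⟩ := hB u y hu hy
      · exact Or.inl ⟨g, hg, hgu⟩
      · exact Or.inr ⟨g, hg, hgu⟩
  have h1 := Finset.card_union_of_disjoint hdisj
  rw [hunion, Finset.card_compl, Finset.card_map, Finset.card_univ, Fintype.card_fin,
    ← Nat.card_eq_fintype_card, h.card, hcard] at h1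
  have := h.hq.odd_of_ne_two (by omega)
  obtain ⟨m, hm⟩ := this
  omega

end Cfsg.Agent.Classical.PrimeTwin
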