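import Cfsg.Agent.Lib.Classical.PrimeTwin.SmallSupport

/-!
A multiply transitive group with a Sylow subgroup of the stabiliser of a few points having two or
three short orbits contains the alternating group.
-/

set_option autoImplicit false

namespace Cfsg.Agent.Classical.PrimeTwin

open Equiv MulAction
open scoped Pointwise

universe u

variable {Ω : Type u} [Fintype Ω] [DecidableEq Ω] {r : ℕ} [Fact r.Prime]

/-- A primitive group with a short cycle of prime length contains the alternating group. -/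
theorem alternatingGroup_le_of_prime_cycle {G : Subgroup (Perm Ω)}
    (h2 : IsMultiplyPretransitive G Ω 2) {z : Perm Ω} (hz : z ∈ G) (hz1 : z ≠ 1) (hzr : z ^ r = 1)
    (hsupp : z.support.card < 2 * r) (h2r : 2 * r ≤ Fintype.card Ω + 1)
    (hr3 : r + 3 ≤ Fintype.card Ω) : alternatingGroup Ω ≤ G := by
  classical
  have hr : r.Prime := Fact.out
  have hord : orderOf z = r := orderOf_eq_prime hzr hz1
  have hcyc : z.IsCycle := Perm.isCycle_of_prime_order (by rw [hord]; exact hr) (by rw [hord]; exact hsupp)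
  have hcard : z.support.card = r := by rw [← hcyc.orderOf, hord]
  have := isPreprimitive_of_is_two_pretransitive h2
  obtain ⟨n, hn⟩ : ∃ n, Fintype.card Ω = r + (n + 1) := ⟨Fintype.card Ω - r - 1, by omega⟩
  have hsc : Set.ncard ((z.support)ᶜ : Set Ω) = n + 1 := by
    apply Nat.add_left_cancel (n := r)
    nth_rw 1 [← hcard]
    rw [← Set.ncard_coe_finset, Set.ncard_add_ncard_compl, Nat.card_eq_fintype_card, hn]
  have htr := Perm.isPretransitive_of_isCycle_mem hcyc hz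
  have hprim : IsPreprimitive (fixingSubgroup G ((z.support : Set Ω)ᶜ))
      (SubMulAction.ofFixingSubgroup G ((z.support : Set Ω)ᶜ)) := by
    apply IsPreprimitive.of_prime_card
    convert! hr
    rw [Nat.card_eq_fintype_card, Fintype.card_subtype, ← hcard]
    congr 1
    ext x
    simp [SubMulAction.mem_ofFixingSubgroup_iff]
  have hm : IsMultiplyPreprimitive G Ω (n + 2) :=
    this.isMultiplyPreprimitive hsc (by rw [Nat.card_eq_fintype_card, hn]; have := hr.two_le; omega) hprim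
  exact alternatingGroup_le_of_small_support h2 hm.isMultiplyPretransitive
    (by have := hr.two_le; omega) hz hz1 (by omega) (by omega)

/-- The hypotheses: a group `N` mapping into `G`, inducing permutations of `k` points and
normalising an `r`-subgroup `R` of `G` which fixes exactly those points and has `m` short orbits. -/
structure Cfg (G : Subgroup (Perm Ω)) (r k m : ℕ) where
  N : Type u
  [grp : Group N]
  ι : N →* Perm Ω
  π : N →* Perm (Fin k)
  a : Fin k ↪ Ω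
  surj : Function.Surjective π
  compat : ∀ n i, ι n (a i) = a (π n i)
  mem : ∀ n, ι n ∈ G
  R : Subgroup (Perm Ω)
  le : R ≤ G
  isP : IsPGroup r R
  conj : ∀ n, ∀ x ∈ R, ι n * x * (ι n)⁻¹ ∈ R
  fix : ∀ x ∈ R, ∀ i, x (a i) = a i
  move : ∀ y, (∀ i, a i ≠ y) → ∃ x ∈ R, x y ≠ y
  card : Fintype.card Ω = k + m * r
  small : m < r
  ksmall : k < r

attribute [instance] Cfg.grp

variable {G : Subgroup (Perm Ω)} {k m : ℕ}

namespace Cfg

/-- The orbit of a point under `R`. -/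
def orb (C : Cfg G r k m) (y : Ω) : Set Ω := MulAction.orbit C.R y

theorem self_mem_orb (C : Cfg G r k m) (y : Ω) : y ∈ C.orb y := MulAction.mem_orbit_self y

theorem smul_mem_orb (C : Cfg G r k m) {x : Perm Ω} (hx : x ∈ C.R) (y : Ω) : x y ∈ C.orb y :=
  ⟨⟨x, hx⟩, rfl⟩

theorem orb_eq_of_mem (C : Cfg G r k m) {y z : Ω} (h : z ∈ C.orb y) : C.orb z = C.orb y :=
  MulAction.orbit_eq_iff.2 h

theorem orb_outside (C : Cfg G r k m) {y z : Ω} (hy : ∀ i, C.a i ≠ y) (h : z ∈ C.orb y) :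
    ∀ i, C.a i ≠ z := by
  obtain ⟨⟨x, hx⟩, rfl⟩ := h
  intro i e
  exact hy i (x.injective ((C.fix x hx i).trans e))

theorem orb_card (C : Cfg G r k m) {y : Ω} (hy : ∀ i, C.a i ≠ y) : (C.orb y).ncard = r := by
  classical
  have hr : r.Prime := Fact.out
  obtain ⟨n, hn⟩ := C.isP.card_orbit y
  rw [Nat.card_coe_set_eq] at hn
  have hn0 : n ≠ 0 := by
    rintro rfl
    rw [pow_zero, Set.ncard_eq_one] at hn
    obtain ⟨z, hz⟩ := hn
    obtain ⟨x, hx, hxy⟩ := C.move y hy
    have h1 : y ∈ MulAction.orbit C.R y := C.self_mem_orb y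
    have h2 : x y ∈ MulAction.orbit C.R y := C.smul_mem_orb hx y
    rw [hz, Set.mem_singleton_iff] at h1 h2
    exact hxy (h2.trans h1.symm)
  have hle : (C.orb y).ncard ≤ m * r := by
    have h1 : C.orb y ⊆ (Set.range C.a)ᶜ := fun z hz ⟨i, hi⟩ => C.orb_outside hy hz i hi
    have h2 := Set.ncard_le_ncard h1 (Set.toFinite _)
    rwa [Set.ncard_compl, Set.ncard_range_of_injective C.a.injective, Nat.card_eq_fintype_card,
      Nat.card_fin, C.card, Nat.add_sub_cancel_left] at h2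
  have hn1 : n < 2 := by
    by_contra hcon
    have h1 : r ^ 2 ≤ r ^ n := Nat.pow_le_pow_right hr.pos (by omega)
    have : (C.orb y).ncard = r ^ n := hn
    have h2 : m * r < r * r := Nat.mul_lt_mul_of_pos_right C.small hr.pos
    rw [sq] at h1
    omega
  rw [show n = 1 by omega, pow_one] at hn
  exact hn

theorem cyclic_orbit (C : Cfg G r k m) {x : Perm Ω} (hx : x ∈ C.R) {y : Ω} (hy : ∀ i, C.a i ≠ y) :
    MulAction.orbit (Subgroup.zpowers x) y ⊆ C.orb y ∧
      (x y = y ∨ MulAction.orbit (Subgroup.zpowers x) y = C.orb y) := by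
  have hsub : MulAction.orbit (Subgroup.zpowers x) y ⊆ C.orb y := by
    rintro _ ⟨⟨g, hg⟩, rfl⟩
    exact C.smul_mem_orb (Subgroup.zpowers_le.2 hx hg) y
  refine ⟨hsub, or_iff_not_imp_left.2 fun hxy => Set.eq_of_subset_of_ncard_le hsub ?_ (Set.toFinite _)⟩
  have hp : IsPGroup r (Subgroup.zpowers x) := C.isP.to_le (Subgroup.zpowers_le.2 hx)
  obtain ⟨n, hn⟩ := hp.card_orbit y
  rw [Nat.card_coe_set_eq] at hn
  rw [C.orb_card hy]
  rw [hn]
  refine Nat.le_self_pow (fun h0 => hxy ?_) r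
  rw [h0, pow_zero, Set.ncard_eq_one] at hn
  obtain ⟨z, hz⟩ := hn
  have h1 : y ∈ MulAction.orbit (Subgroup.zpowers x) y := MulAction.mem_orbit_self y
  have h2 : x y ∈ MulAction.orbit (Subgroup.zpowers x) y := ⟨⟨x, Subgroup.mem_zpowers x⟩, rfl⟩
  rw [hz, Set.mem_singleton_iff] at h1 h2
  exact h2.trans h1.symm

theorem fix_orb (C : Cfg G r k m) {x : Perm Ω} (hx : x ∈ C.R) {y z : Ω} (hy : ∀ i, C.a i ≠ y)
    (hxy : x y = y) (hz : z ∈ C.orb y) : x z = z := by
  rcases (C.cyclic_orbit hx (C.orb_outside hy hz)).2 with h | h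
  · exact h
  have hyz : y ∈ MulAction.orbit (Subgroup.zpowers x) z := by
    rw [h, C.orb_eq_of_mem hz]; exact C.self_mem_orb y
  obtain ⟨⟨g, hg⟩, hgz⟩ := MulAction.mem_orbit_symm.1 hyz
  obtain ⟨i, rfl⟩ := Subgroup.mem_zpowers_iff.1 hg
  have hgz' : (x ^ i) y = z := hgz
  rw [Equiv.Perm.zpow_apply_eq_self_of_apply_eq_self hxy] at hgz'
  rw [← hgz', hxy]

theorem eq_zpow_on (C : Cfg G r k m) {x w : Perm Ω} (hx : x ∈ C.R) (hw : w ∈ C.R) {y : Ω}
    (hy : ∀ i, C.a i ≠ y) (hxy : x y ≠ y) : ∃ i : ℤ, ∀ z ∈ C.orb y, w z = (x ^ i) z := by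
  have h := ((C.cyclic_orbit hx hy).2.resolve_left hxy).symm.subset (C.smul_mem_orb hw y)
  obtain ⟨⟨g, hg⟩, hgy⟩ := h
  obtain ⟨i, rfl⟩ := Subgroup.mem_zpowers_iff.1 hg
  have hgy' : (x ^ i) y = w y := hgy
  refine ⟨i, fun z hz => ?_⟩
  have := C.fix_orb (C.R.mul_mem (C.R.inv_mem (C.R.zpow_mem hx i)) hw) hy
    (by rw [Perm.mul_apply, Perm.inv_eq_iff_eq, hgy']) hz
  rwa [Perm.mul_apply, Perm.inv_eq_iff_eq] at this

theorem comm (C : Cfg G r k m) {x w : Perm Ω} (hx : x ∈ C.R) (hw : w ∈ C.R) : x * w = w * x := by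
  ext z
  simp only [Perm.mul_apply]
  by_cases hz : ∀ i, C.a i ≠ z
  · by_cases hxz : x z = z
    · rw [hxz, C.fix_orb hx hz hxz (C.smul_mem_orb hw z)]
    · obtain ⟨i, hi⟩ := C.eq_zpow_on hx hw hz hxz
      rw [hi z (C.self_mem_orb z), hi (x z) (C.smul_mem_orb hx z), ← Perm.mul_apply, ← Perm.mul_apply,
        ← zpow_one_add, ← zpow_add_one, add_comm]
  · push Not at hz
    obtain ⟨i, rfl⟩ := hz
    rw [C.fix w hw, C.fix x hx, C.fix w hw]

theorem pow_eq_one (C : Cfg G r k m) {x : Perm Ω} (hx : x ∈ C.R) : x ^ r = 1 := by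
  ext z
  rw [Perm.one_apply]
  by_cases hz : ∀ i, C.a i ≠ z
  · have : IsMulCommutative C.R := ⟨⟨fun a b => Subtype.ext (C.comm a.2 b.2)⟩⟩
    have hn : (MulAction.stabilizer C.R z).Normal := Subgroup.normal_of_isMulCommutative _
    have hidx : (MulAction.stabilizer C.R z).index = r := by
      rw [MulAction.index_stabilizer]
      exact C.orb_card hz
    have := Subgroup.pow_index_mem (MulAction.stabilizer C.R z) ⟨x, hx⟩
    rw [hidx, MulAction.mem_stabilizer_iff] at this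
    exact this
  · push Not at hz
    obtain ⟨i, rfl⟩ := hz
    exact Perm.pow_apply_eq_self_of_apply_eq_self (C.fix x hx i) r

/-- An element commuting with `x` and preserving an orbit moved by `x` has `r`-th power trivial
there. -/
theorem pow_fix (C : Cfg G r k m) {x g : Perm Ω} (hx : x ∈ C.R) (hgx : g * x = x * g) {y : Ω}
    (hy : ∀ i, C.a i ≠ y) (hxy : x y ≠ y) (hgy : g y ∈ C.orb y) : (g ^ r) y = y := by
  have h := ((C.cyclic_orbit hx hy).2.resolve_left hxy).symm.subset hgy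
  obtain ⟨⟨u, hu⟩, huy⟩ := h
  obtain ⟨i, rfl⟩ := Subgroup.mem_zpowers_iff.1 hu
  have huy' : (x ^ i) y = g y := huy
  have hc : Commute g (x ^ i) := (Commute.zpow_right hgx i)
  have key : ∀ n : ℕ, (g ^ n) y = ((x ^ i) ^ n) y := by
    intro n
    induction n with
    | zero => rfl
    | succ n ih =>
      rw [pow_succ', Perm.mul_apply, ih, ← Perm.mul_apply, (hc.pow_right n).eq, Perm.mul_apply,
        ← huy', ← Perm.mul_apply, ← pow_succ]
  rw [key, C.pow_eq_one (C.R.zpow_mem hx i), Perm.one_apply]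

theorem image_orb (C : Cfg G r k m) (n : C.N) (y : Ω) : C.ι n '' C.orb y = C.orb (C.ι n y) := by
  ext z
  constructor
  · rintro ⟨_, ⟨⟨x, hx⟩, rfl⟩, rfl⟩
    refine ⟨⟨_, C.conj n x hx⟩, ?_⟩
    show (C.ι n * x * (C.ι n)⁻¹) (C.ι n y) = C.ι n (x y)
    simp
  · rintro ⟨⟨x, hx⟩, rfl⟩
    refine ⟨(C.ι n⁻¹ * x * (C.ι n⁻¹)⁻¹) y, C.smul_mem_orb (C.conj n⁻¹ x hx) y, ?_⟩
    show _ = x (C.ι n y)
    simp

theorem outside_image (C : Cfg G r k m) (n : C.N) {y : Ω} (hy : ∀ i, C.a i ≠ y) :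
    ∀ i, C.a i ≠ C.ι n y := by
  intro i e
  obtain ⟨j, rfl⟩ := (C.π n).surjective i
  rw [← C.compat] at e
  exact hy j ((C.ι n).injective e)

/-- No non-trivial element of `R` moves at most one orbit. -/
theorem eq_one_of_one_orbit (C : Cfg G r k m) (h2 : IsMultiplyPretransitive G Ω 2)
    (hA : ¬ alternatingGroup Ω ≤ G) (hm : 2 ≤ m) (hk3 : 3 ≤ k + (m - 1) * r) {z : Perm Ω} (hz : z ∈ C.R)
    (h : ∀ y₁ y₂, z y₁ ≠ y₁ → z y₂ ≠ y₂ → y₂ ∈ C.orb y₁) : z = 1 := by
  classical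
  by_contra hz1
  obtain ⟨y, hy⟩ : ∃ y, z y ≠ y := by
    by_contra hcon
    push Not at hcon
    exact hz1 (Equiv.ext hcon)
  have hyout : ∀ i, C.a i ≠ y := fun i e => hy (e ▸ C.fix z hz i)
  have hs : z.support.card ≤ r := by
    rw [← C.orb_card hyout, ← Set.ncard_coe_finset]
    exact Set.ncard_le_ncard (fun w hw => h y w hy (Perm.mem_support.1 hw)) (Set.toFinite _)
  have hr : r.Prime := Fact.out
  have h1 : r + (m - 1) * r = m * r := by
    obtain ⟨j, rfl⟩ : ∃ j, m = j + 1 := ⟨m - 1, by omega⟩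
    rw [Nat.add_sub_cancel]; ring
  have h3 : 2 * r ≤ m * r := Nat.mul_le_mul_right r hm
  exact hA (alternatingGroup_le_of_prime_cycle h2 (C.le hz) hz1 (C.pow_eq_one hz)
    (by have := hr.pos; omega) (by rw [C.card]; omega) (by rw [C.card]; omega))

/-- An element centralising `R` and preserving its orbits, of non-trivial image, forces the
alternating group. -/
theorem false_of_centralizing (C : Cfg G r k m) (h2 : IsMultiplyPretransitive G Ω 2)
    (hk : IsMultiplyPretransitive G Ω k) (h2k : 2 * k ≤ Fintype.card Ω + 1)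
    (hA : ¬ alternatingGroup Ω ≤ G) {c : C.N} (hcomm : ∀ x ∈ C.R, C.ι c * x = x * C.ι c)
    (hpres : ∀ y, (∀ i, C.a i ≠ y) → C.ι c y ∈ C.orb y) (hπ : C.π c ≠ 1) : False := by
  classical
  have hr : r.Prime := Fact.out
  have hout : ∀ y, (∀ i, C.a i ≠ y) → ((C.ι c) ^ r) y = y := by
    intro y hy
    obtain ⟨x, hx, hxy⟩ := C.move y hy
    exact C.pow_fix hx (hcomm x hx) hy hxy (hpres y hy)
  have hsub : ((C.ι c) ^ r).support ⊆ Finset.univ.map C.a := by
    intro y hy
    simp only [Finset.mem_map, Finset.mem_univ, true_and]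
    by_contra hcon
    push Not at hcon
    exact Perm.mem_support.1 hy (hout y hcon)
  have hs : ((C.ι c) ^ r).support.card ≤ k := (Finset.card_le_card hsub).trans (by simp)
  have hne : (C.ι c) ^ r ≠ 1 := by
    intro he
    have hπr : C.π c ^ r = 1 := Equiv.ext fun i => C.a.injective (by
      rw [← map_pow, ← C.compat, map_pow, he]; rfl)
    have hdvd := orderOf_dvd_of_pow_eq_one hπr
    rcases hr.eq_one_or_self_of_dvd _ hdvd with h | h
    · exact hπ (orderOf_eq_one_iff.1 h)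
    · have h3 : orderOf (C.π c) ∣ k.factorial := by
        simpa [Fintype.card_perm] using orderOf_dvd_natCard (C.π c)
      rw [h] at h3
      have := hr.dvd_factorial.1 h3
      have := C.ksmall
      omega
  exact hA (alternatingGroup_le_of_small_support h2 hk (by rw [C.card]; omega)
    (G.pow_mem (C.mem c) r) hne hs (by omega))

/-- Two short orbits over three points. -/
theorem alt_two (C : Cfg G r 3 2) (h3 : IsMultiplyPretransitive G Ω 3)
    (h2 : IsMultiplyPretransitive G Ω 2) : alternatingGroup Ω ≤ G := by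
  classical
  by_contra hA
  have hr : r.Prime := Fact.out
  have hsm := C.ksmall
  have hone : ∀ z ∈ C.R, ∀ y, (∀ i, C.a i ≠ y) → z y = y → z = 1 := by
    intro z hz y hy hzy
    refine C.eq_one_of_one_orbit h2 hA le_rfl (by omega) hz fun y₁ y₂ h₁ h₂ => ?_
    have hy₁ : ∀ i, C.a i ≠ y₁ := fun i e => h₁ (e ▸ C.fix z hz i)
    have hy₂ : ∀ i, C.a i ≠ y₂ := fun i e => h₂ (e ▸ C.fix z hz i)
    by_contra hne
    have d1 : Disjoint (C.orb y) (C.orb y₁) := Set.disjoint_left.2 fun w hw hw' => h₁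
      (C.fix_orb hz hy hzy (by
        rw [← C.orb_eq_of_mem hw, C.orb_eq_of_mem hw']; exact C.self_mem_orb y₁))
    have d2 : Disjoint (C.orb y) (C.orb y₂) := Set.disjoint_left.2 fun w hw hw' => h₂
      (C.fix_orb hz hy hzy (by
        rw [← C.orb_eq_of_mem hw, C.orb_eq_of_mem hw']; exact C.self_mem_orb y₂))
    have d3 : Disjoint (C.orb y₁) (C.orb y₂) := Set.disjoint_left.2 fun w hw hw' => hne (by
      rw [← C.orb_eq_of_mem hw, C.orb_eq_of_mem hw']; exact C.self_mem_orb y₂)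
    have hsub : C.orb y ∪ C.orb y₁ ∪ C.orb y₂ ⊆ (Set.range C.a)ᶜ := by
      rintro w ((hw | hw) | hw) ⟨i, hi⟩
      · exact C.orb_outside hy hw i hi
      · exact C.orb_outside hy₁ hw i hi
      · exact C.orb_outside hy₂ hw i hi
    have h := Set.ncard_le_ncard hsub (Set.toFinite _)
    rw [Set.ncard_union_eq (Set.disjoint_union_left.2 ⟨d2, d3⟩), Set.ncard_union_eq d1,
      C.orb_card hy, C.orb_card hy₁, C.orb_card hy₂, Set.ncard_compl,
      Set.ncard_range_of_injective C.a.injective, Nat.card_eq_fintype_card, Nat.card_fin, C.card] at h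
    omega
  obtain ⟨y₀, hy₀⟩ : ∃ y, ∀ i, C.a i ≠ y := by
    by_contra hcon
    push Not at hcon
    have := Fintype.card_le_of_surjective C.a fun y => hcon y
    rw [C.card, Fintype.card_fin] at this
    have := hr.pos
    omega
  obtain ⟨x₀, hx₀, hxy₀⟩ := C.move y₀ hy₀
  have hgen : ∀ w ∈ C.R, ∃ i : ℤ, w = x₀ ^ i := fun w hw => by
    obtain ⟨i, hi⟩ := C.eq_zpow_on hx₀ hw hy₀ hxy₀
    refine ⟨i, (inv_mul_eq_one.1 (hone _ (C.R.mul_mem (C.R.inv_mem (C.R.zpow_mem hx₀ i)) hw) y₀ hy₀ ?_)).symm⟩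
    rw [Perm.mul_apply, Perm.inv_eq_iff_eq, hi y₀ (C.self_mem_orb y₀)]
  obtain ⟨n₁, hn₁⟩ := C.surj (swap 0 1)
  obtain ⟨n₂, hn₂⟩ := C.surj (swap 1 2)
  let c := (n₂ * n₁)⁻¹ * (n₁ * n₂)
  have hc : ∀ x ∈ C.R, C.ι c * x = x * C.ι c := by
    intro x hx
    obtain ⟨j, rfl⟩ := hgen x hx
    obtain ⟨e₁, he₁⟩ := hgen _ (C.conj n₁ x₀ hx₀)
    obtain ⟨e₂, he₂⟩ := hgen _ (C.conj n₂ x₀ hx₀)
    have h12 : ∀ (g h : Perm Ω) (e f : ℤ), g * x₀ * g⁻¹ = x₀ ^ e → h * x₀ * h⁻¹ = x₀ ^ f →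
        g * h * x₀ * (g * h)⁻¹ = x₀ ^ (e * f) := fun g h e f hg hh => by
      calc g * h * x₀ * (g * h)⁻¹ = g * (h * x₀ * h⁻¹) * g⁻¹ := by group
        _ = _ := by rw [hh, ← conj_zpow, hg, zpow_mul]
    have e12 := h12 _ _ _ _ he₁ he₂
    have e21 := h12 _ _ _ _ he₂ he₁
    rw [mul_comm e₂ e₁, ← e12] at e21
    refine Commute.zpow_right ?_ j
    show C.ι c * x₀ = x₀ * C.ι c
    have e : C.ι c = (C.ι n₂ * C.ι n₁)⁻¹ * (C.ι n₁ * C.ι n₂) := by simp [c]
    rw [e]
    calc (C.ι n₂ * C.ι n₁)⁻¹ * (C.ι n₁ * C.ι n₂) * x₀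
        = (C.ι n₂ * C.ι n₁)⁻¹ * (C.ι n₁ * C.ι n₂ * x₀ * (C.ι n₁ * C.ι n₂)⁻¹) *
            (C.ι n₁ * C.ι n₂) := by group
      _ = _ := by rw [← e21]; group
  -- the square preserves both orbits
  refine C.false_of_centralizing h2 h3 (by rw [C.card]; omega) hA (c := c * c) ?_ ?_ ?_
  · intro x hx
    rw [map_mul, mul_assoc, hc x hx, ← mul_assoc, hc x hx, mul_assoc]
  · intro y hy
    rw [map_mul, Perm.mul_apply]
    by_cases h : C.ι c y ∈ C.orb y
    · have h' : C.ι c (C.ι c y) ∈ C.ι c '' C.orb y := ⟨_, h, rfl⟩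
      rw [C.image_orb, C.orb_eq_of_mem h] at h'
      exact h'
    · by_contra h'
      have hy1 := C.outside_image c hy
      have hy2 := C.outside_image c hy1
      have d1 : Disjoint (C.orb y) (C.orb (C.ι c y)) := Set.disjoint_left.2 fun w hw hw' => h (by
        rw [← C.orb_eq_of_mem hw, C.orb_eq_of_mem hw']; exact C.self_mem_orb _)
      have d2 : Disjoint (C.orb y) (C.orb (C.ι c (C.ι c y))) := Set.disjoint_left.2 fun w hw hw' => h' (by
        rw [← C.orb_eq_of_mem hw, C.orb_eq_of_mem hw']; exact C.self_mem_orb _)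
      have d3 : Disjoint (C.orb (C.ι c y)) (C.orb (C.ι c (C.ι c y))) := by
        rw [← C.image_orb c y, ← C.image_orb c (C.ι c y)]
        exact (Set.disjoint_image_iff (C.ι c).injective).2 d1
      have hsub : C.orb y ∪ C.orb (C.ι c y) ∪ C.orb (C.ι c (C.ι c y)) ⊆ (Set.range C.a)ᶜ := by
        rintro w ((hw | hw) | hw) ⟨i, hi⟩
        · exact C.orb_outside hy hw i hi
        · exact C.orb_outside hy1 hw i hi
        · exact C.orb_outside hy2 hw i hi
      have h := Set.ncard_le_ncard hsub (Set.toFinite _)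
      rw [Set.ncard_union_eq (Set.disjoint_union_left.2 ⟨d2, d3⟩), Set.ncard_union_eq d1,
        C.orb_card hy, C.orb_card hy1, C.orb_card hy2, Set.ncard_compl,
        Set.ncard_range_of_injective C.a.injective, Nat.card_eq_fintype_card, Nat.card_fin, C.card] at h
      omega
  · simp only [c, map_mul, map_inv, hn₁, hn₂]
    decide

theorem perm_three_metabelian {α : Type*} [Fintype α] [DecidableEq α] (hα : Fintype.card α = 3)
    (a b c d : Perm α) : Commute (a * b * a⁻¹ * b⁻¹) (c * d * c⁻¹ * d⁻¹) := by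
  have key : ∀ u v : Perm (Fin 3), Perm.sign u = 1 → Perm.sign v = 1 → u * v = v * u := by decide
  let e : Perm α ≃* Perm (Fin 3) := (Fintype.equivFinOfCardEq hα).permCongrHom
  apply e.injective
  have hs : ∀ x y : Perm α, Perm.sign (e (x * y * x⁻¹ * y⁻¹)) = 1 := fun x y => by
    simp only [map_mul, map_inv]
    rw [mul_inv_cancel_comm, mul_inv_cancel]
  rw [map_mul e (a * b * a⁻¹ * b⁻¹), map_mul e (c * d * c⁻¹ * d⁻¹)]
  exact key _ _ (hs a b) (hs c d)

end Cfg

end Cfsg.Agent.Classical.PrimeTwin
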